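import Groth.Prelude.Def_ArtFun
import Groth.Agent.FlatBasics.DeformAlg
import Mathlib.RingTheory.Flat.EquationalCriterion
import Mathlib.LinearAlgebra.TensorProduct.Basis
import Mathlib.LinearAlgebra.Basis.VectorSpace
import Mathlib.RingTheory.Artinian.Ring

/-!
# Deformations of an algebra, and reductions between them

An `AlgDef B A` is a flat `A`-algebra with closed fibre `B`. A `Red p R' R` exhibits `R` as `R' / J R'`
for `p : A' ⟶ A` with kernel `J`. When `J` is killed by the maximal ideal, `theta` identifies `J R'` with `B ⊗ J`.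
-/

noncomputable section

universe u

open CategoryTheory TensorProduct IsLocalRing

namespace DefAff

variable {k : Type u} [Field k] (B : Type u) [CommRing B] [Algebra k B]

/-- The additive group of `B ⊗ ker p`; instance search misses it inside modules of homomorphisms. -/
instance instAddCommGroupTensor {k B : Type u} [Field k] [CommRing B] [Algebra k B] {A A' : ArtFun.Art k k}
    (p : A' ⟶ A) : AddCommGroup (B ⊗[k] RingHom.ker p.toAlgHom) :=
  TensorProduct.addCommGroup

/-- An algebraic deformation of `B` over `A`. -/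
structure AlgDef (A : ArtFun.Art k k) : Type (u + 1) where
  /-- The total ring. -/
  carrier : Type u
  [commRing : CommRing carrier]
  [algebra : Algebra A carrier]
  /-- Reduction to the closed fibre. -/
  proj : carrier →+* B
  proj_algebraMap : ∀ a : A, proj (algebraMap A carrier a) = algebraMap k B (A.res a)
  proj_surjective : Function.Surjective proj
  ker_proj_le : RingHom.ker proj ≤ (maximalIdeal A).map (algebraMap A carrier)
  flat : Module.Flat A carrier

attribute [instance] AlgDef.commRing AlgDef.algebra AlgDef.flat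

instance (A : ArtFun.Art k k) : CoeSort (AlgDef B A) (Type u) := ⟨AlgDef.carrier⟩

variable {B} {A A' : ArtFun.Art k k}

lemma isNilpotent_maximalIdeal (A : ArtFun.Art k k) : IsNilpotent (maximalIdeal A) := by
  rw [← IsLocalRing.jacobson_eq_maximalIdeal ⊥ bot_ne_top]
  exact IsArtinianRing.isNilpotent_jacobson_bot

lemma res_eq_zero {a : A} (ha : a ∈ maximalIdeal A) : A.res a = 0 :=
  (ArtFun.Art.mem_maximalIdeal_iff A a).1 ha

lemma ker_le_maximalIdeal (p : A' ⟶ A) : RingHom.ker p.toAlgHom ≤ maximalIdeal A' :=
  IsLocalRing.le_maximalIdeal (RingHom.ker_ne_top _)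

namespace AlgDef

variable (R : AlgDef B A)

lemma proj_eq_zero {x : R} (hx : x ∈ (maximalIdeal A).map (algebraMap A R)) : R.proj x = 0 := by
  have : (maximalIdeal A).map (algebraMap A R) ≤ RingHom.ker R.proj :=
    Ideal.map_le_iff_le_comap.2 fun a ha => by
      rw [Ideal.mem_comap, RingHom.mem_ker, R.proj_algebraMap, res_eq_zero ha, map_zero]
  exact this hx

lemma proj_eq_zero_iff {x : R} : R.proj x = 0 ↔ x ∈ (maximalIdeal A).map (algebraMap A R) :=
  ⟨fun h => R.ker_proj_le h, R.proj_eq_zero⟩

lemma proj_smul (a : A) (x : R) : R.proj (a • x) = A.res a • R.proj x := by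
  rw [Algebra.smul_def, map_mul, R.proj_algebraMap, ← Algebra.smul_def]

/-- Lifts of linearly independent elements of the closed fibre are linearly independent. -/
theorem linearIndependent {ι : Type*} (v : ι → R) (hv : LinearIndependent k (R.proj ∘ v)) :
    LinearIndependent A v := by
  classical
  rw [linearIndependent_iff']
  intro s c hc i hi
  rw [← Finset.sum_coe_sort] at hc
  obtain ⟨l, a, y, hy, hca⟩ := Module.Flat.isTrivialRelation_of_sum_smul_eq_zero hc
  simp only at hy hca
  let g : (s → k) →ₗ[k] (Fin l → k) := Fintype.linearCombination k fun (t : s) j => A.res (a t j)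
  have hg : LinearMap.ker g = ⊥ := by
    refine LinearMap.ker_eq_bot'.2 fun μ hμ => ?_
    have h0 : ∑ t : s, μ t • R.proj (v t) = 0 := by
      have e : ∀ t : s, R.proj (v t) = ∑ j, A.res (a t j) • R.proj (y j) := fun t => by
        rw [hy t, map_sum]; simp_rw [R.proj_smul]
      simp_rw [e, Finset.smul_sum, smul_smul]
      rw [Finset.sum_comm]
      refine Finset.sum_eq_zero fun j _ => ?_
      rw [← Finset.sum_smul]
      have := congrFun hμ j
      rw [Fintype.linearCombination_apply, Finset.sum_apply, Pi.zero_apply] at this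
      simp only [Pi.smul_apply, smul_eq_mul] at this
      rw [this, zero_smul]
    funext t
    exact Fintype.linearIndependent_iff.1 (hv.comp _ Subtype.val_injective) μ h0 t
  obtain ⟨h, hh⟩ := LinearMap.exists_leftInverse_of_injective g hg
  choose b hb using fun (j : Fin l) (t : s) => A.res_surjective (h (Pi.single j 1) t)
  have hN : ∀ t t' : s, (if t = t' then (1 : A) else 0) - ∑ j, a t j * b j t' ∈ maximalIdeal A := by
    intro t t'
    rw [ArtFun.Art.mem_maximalIdeal_iff, map_sub, map_sum]
    have := congrFun (LinearMap.congr_fun hh (Pi.single t 1)) t'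
    rw [LinearMap.comp_apply, LinearMap.id_apply,
      show g (Pi.single t 1) = fun j => A.res (a t j) by
        rw [Fintype.linearCombination_apply_single, one_smul],
      pi_eq_sum_univ' (fun j => A.res (a t j)), map_sum, Finset.sum_apply, Pi.single_apply] at this
    simp only [map_smul, Pi.smul_apply, smul_eq_mul] at this
    simp only [map_mul, hb, this]
    rcases eq_or_ne t t' with rfl | h1
    · rw [if_pos rfl, if_pos rfl, map_one, sub_self]
    · rw [if_neg h1, if_neg h1.symm, map_zero, sub_self]
  have hpow : ∀ (m : ℕ) (t' : s), c t' ∈ maximalIdeal A ^ m := by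
    intro m
    induction m with
    | zero => intro t'; rw [pow_zero, Ideal.one_eq_top]; trivial
    | succ m ih =>
      intro t'
      have h1 : ∑ t : s, c t * ((if t = t' then (1 : A) else 0) - ∑ j, a t j * b j t') = c t' := by
        simp_rw [mul_sub, Finset.sum_sub_distrib, mul_ite, mul_one, mul_zero]
        rw [Finset.sum_ite_eq' Finset.univ t' fun t : s => c t, if_pos (Finset.mem_univ _), sub_eq_self]
        simp_rw [Finset.mul_sum, ← mul_assoc]
        rw [Finset.sum_comm]
        exact Finset.sum_eq_zero fun j _ => by rw [← Finset.sum_mul, hca j, zero_mul]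
      rw [← h1, pow_succ]
      exact Ideal.sum_mem _ fun t _ => Ideal.mul_mem_mul (ih t) (hN t t')
  obtain ⟨N, hN'⟩ := isNilpotent_maximalIdeal A
  simpa [hN'] using hpow N ⟨i, hi⟩

end AlgDef

/-- `R = R' / J R'`, over `p : A' ⟶ A` with kernel `J`. -/
structure Red (p : A' ⟶ A) (R' : AlgDef B A') (R : AlgDef B A) : Type u where
  /-- The reduction map. -/
  q : R' →+* R
  q_algebraMap : ∀ a : A', q (algebraMap A' R' a) = algebraMap A R (p.toAlgHom a)
  proj_q : ∀ x, R.proj (q x) = R'.proj x
  q_surjective : Function.Surjective q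
  ker_q_le : RingHom.ker q ≤ (RingHom.ker p.toAlgHom).map (algebraMap A' R')

variable {p : A' ⟶ A} {R' : AlgDef B A'} {R : AlgDef B A}

lemma Red.q_eq_zero_iff (r : Red p R' R) {x : R'} :
    r.q x = 0 ↔ x ∈ (RingHom.ker p.toAlgHom).map (algebraMap A' R') := by
  refine ⟨fun h => r.ker_q_le h, fun h => ?_⟩
  have : (RingHom.ker p.toAlgHom).map (algebraMap A' R') ≤ RingHom.ker r.q :=
    Ideal.map_le_iff_le_comap.2 fun a ha => by
      rw [Ideal.mem_comap, RingHom.mem_ker, r.q_algebraMap, RingHom.mem_ker.1 ha, map_zero]
  exact this h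

section Theta

variable (hp : maximalIdeal A' * RingHom.ker p.toAlgHom = ⊥)
include hp

/-- `m J = 0` inside a deformation. -/
lemma mul_eq_zero {T : Type u} [CommRing T] [Algebra A' T] {x y : T}
    (hx : x ∈ (maximalIdeal A').map (algebraMap A' T))
    (hy : y ∈ (RingHom.ker p.toAlgHom).map (algebraMap A' T)) : x * y = 0 := by
  have h := Ideal.mul_mem_mul hx hy
  rwa [← Ideal.map_mul, hp, Ideal.map_bot, Ideal.mem_bot] at h

lemma ker_mul_eq (j : RingHom.ker p.toAlgHom) (a : A') :
    a * j = algebraMap k A' (A'.res a) * j := by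
  have hm : a - algebraMap k A' (A'.res a) ∈ maximalIdeal A' := by
    rw [ArtFun.Art.mem_maximalIdeal_iff, map_sub, AlgHom.commutes, Algebra.algebraMap_self, RingHom.id_apply,
      sub_self]
  have := Ideal.mul_mem_mul hm j.2
  rw [hp, Ideal.mem_bot, sub_mul, sub_eq_zero] at this
  exact this

/-- `b ⊗ j ↦ j b'` for a lift `b'` of `b`. -/
def theta (R' : AlgDef B A') : B ⊗[k] RingHom.ker p.toAlgHom →+ R' :=
  TensorProduct.liftAddHom
    (AddMonoidHom.mk' (fun b => AddMonoidHom.mk'
        (fun j : RingHom.ker p.toAlgHom => algebraMap A' R' j * Function.surjInv R'.proj_surjective b)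
        fun j j' => by rw [Submodule.coe_add, map_add, add_mul])
      fun b b' => AddMonoidHom.ext fun j => by
        refine sub_eq_zero.1 (Eq.trans ?_ (mul_eq_zero hp (T := R')
          (x := Function.surjInv R'.proj_surjective (b + b') - Function.surjInv R'.proj_surjective b -
            Function.surjInv R'.proj_surjective b') (y := algebraMap A' R' j)
          (R'.ker_proj_le (by simp [Function.surjInv_eq R'.proj_surjective]))
          (Ideal.mem_map_of_mem _ j.2)))
        change algebraMap A' R' j * _ - (algebraMap A' R' j * _ + algebraMap A' R' j * _) = _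
        ring)
    (fun r b j => by
      change algebraMap A' R' j * Function.surjInv R'.proj_surjective (r • b) =
        algebraMap A' R' ↑(r • j) * Function.surjInv R'.proj_surjective b
      rw [Submodule.coe_smul_of_tower, Algebra.smul_def r (j : A'), map_mul]
      refine sub_eq_zero.1 (Eq.trans ?_ (mul_eq_zero hp (T := R')
        (x := Function.surjInv R'.proj_surjective (r • b) -
          algebraMap A' R' (algebraMap k A' r) * Function.surjInv R'.proj_surjective b)
        (y := algebraMap A' R' j) (R'.ker_proj_le ?_) (Ideal.mem_map_of_mem _ j.2)))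
      · ring
      · rw [RingHom.mem_ker, map_sub, map_mul, R'.proj_algebraMap, AlgHom.commutes,
          Function.surjInv_eq R'.proj_surjective, Function.surjInv_eq R'.proj_surjective,
          Algebra.algebraMap_self, RingHom.id_apply, Algebra.smul_def, sub_self])

lemma theta_tmul (x : R') (j : RingHom.ker p.toAlgHom) :
    theta hp R' (R'.proj x ⊗ₜ j) = algebraMap A' R' j * x := by
  rw [theta, TensorProduct.liftAddHom_tmul, AddMonoidHom.mk'_apply, AddMonoidHom.mk'_apply, ← sub_eq_zero,
    ← mul_sub, mul_comm]
  exact mul_eq_zero hp (R'.ker_proj_le (by simp [Function.surjInv_eq R'.proj_surjective]))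
    (Ideal.mem_map_of_mem _ j.2)

lemma theta_smul (x : R') (z : B ⊗[k] RingHom.ker p.toAlgHom) :
    theta hp R' (R'.proj x • z) = x * theta hp R' z := by
  induction z using TensorProduct.induction_on with
  | zero => simp
  | tmul b j =>
    obtain ⟨y, rfl⟩ := R'.proj_surjective b
    rw [TensorProduct.smul_tmul', smul_eq_mul, ← map_mul, theta_tmul, theta_tmul]
    ring
  | add a b ha hb => rw [smul_add, map_add, map_add, mul_add, ha, hb]

lemma theta_mem (z : B ⊗[k] RingHom.ker p.toAlgHom) :
    theta hp R' z ∈ (RingHom.ker p.toAlgHom).map (algebraMap A' R') := by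
  induction z using TensorProduct.induction_on with
  | zero => simp
  | tmul b j =>
    obtain ⟨y, rfl⟩ := R'.proj_surjective b
    rw [theta_tmul]
    exact Ideal.mul_mem_right _ _ (Ideal.mem_map_of_mem _ j.2)
  | add a b ha hb => rw [map_add]; exact Ideal.add_mem _ ha hb

lemma exists_theta_eq {x : R'} (hx : x ∈ (RingHom.ker p.toAlgHom).map (algebraMap A' R')) :
    ∃ z, theta hp R' z = x := by
  refine Submodule.span_induction ?_ ⟨0, map_zero _⟩ ?_ ?_ hx
  · rintro _ ⟨j, hj, rfl⟩
    exact ⟨R'.proj 1 ⊗ₜ ⟨j, hj⟩, by rw [theta_tmul, mul_one]⟩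
  · rintro x y - - ⟨a, rfl⟩ ⟨b, rfl⟩
    exact ⟨a + b, map_add _ a b⟩
  · rintro c x - ⟨z, rfl⟩
    exact ⟨R'.proj c • z, theta_smul hp c z⟩

theorem theta_injective : Function.Injective (theta hp R') := by
  classical
  rw [injective_iff_map_eq_zero]
  intro z hz
  let e := Module.Basis.ofVectorSpace k B
  obtain ⟨c, rfl⟩ := (TensorProduct.equivFinsuppOfBasisLeft e).symm.surjective z
  rw [TensorProduct.equivFinsuppOfBasisLeft_symm_apply] at hz ⊢
  choose v hv using fun i => R'.proj_surjective (e i)
  have hli := R'.linearIndependent v (by rw [show R'.proj ∘ v = e from funext hv]; exact e.linearIndependent)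
  have h1 : Finsupp.linearCombination A' v (c.mapRange Subtype.val rfl) = 0 := by
    rw [Finsupp.linearCombination_apply, Finsupp.sum_mapRange_index (by intro i; exact zero_smul A' (v i)), ← hz,
      map_finsuppSum]
    refine Finsupp.sum_congr fun i _ => ?_
    rw [Algebra.smul_def, ← hv i, theta_tmul]
  have h2 := linearIndependent_iff.1 hli _ h1
  have : c = 0 := Finsupp.ext fun i => Subtype.ext (by simpa using DFunLike.congr_fun h2 i)
  rw [this, Finsupp.sum_zero_index]

end Theta

end DefAff

end
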