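import Groth.Agent.DefAff.Lifts

/-!
# Classification of the lifts of a deformation along a small surjection

For `p : A' ⟶ A` with kernel `J` killed by the maximal ideal and one lift `R₀` of `R`, the lifts of `R` to
`A'`, up to isomorphism over `R`, correspond to `T¹(B/k, B ⊗ J)`.
-/

noncomputable section

universe u

open CategoryTheory TensorProduct IsLocalRing

namespace DefAff

variable {k : Type u} [Field k] {B : Type u} [CommRing B] [Algebra k B]
variable {A A' : ArtFun.Art k k} {p : A' ⟶ A} {R : AlgDef B A}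

/-- An isomorphism of lifts, over `R`. -/
structure RedEquiv {R' R'' : AlgDef B A'} (r : Red p R' R) (r' : Red p R'' R) : Type u where
  /-- The ring isomorphism. -/
  e : R' ≃+* R''
  e_algebraMap : ∀ a, e (algebraMap A' R' a) = algebraMap A' R'' a
  q_e : ∀ x, r'.q (e x) = r.q x

variable (hp : maximalIdeal A' * RingHom.ker p.toAlgHom = ⊥)
variable {ι σ : Type u} {P : Algebra.Presentation k B ι σ}
variable {R₀ : AlgDef B A'} (r₀ : Red p R₀ R) (α₀ : MvPolynomial ι A' →ₐ[A'] R₀)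
variable {R' : AlgDef B A'} (r : Red p R' R)

variable (P) in
/-- A lift of `P` to `R'` agreeing with `α₀` in `R`. -/
structure IsCompat (α : MvPolynomial ι A' →ₐ[A'] R') : Prop where
  isLift : IsLift P R' α
  q_eq : ∀ F, r.q (α F) = r₀.q (α₀ F)

lemma algHom_comp_eq {α : MvPolynomial ι A' →ₐ[A'] R'}
    (h : ∀ i, r.q (α (MvPolynomial.X i)) = r₀.q (α₀ (MvPolynomial.X i))) (F : MvPolynomial ι A') :
    r.q (α F) = r₀.q (α₀ F) := by
  refine RingHom.congr_fun (MvPolynomial.ringHom_ext (f := r.q.comp α.toRingHom)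
    (g := r₀.q.comp α₀.toRingHom) (fun a => ?_) h) F
  change r.q (α (MvPolynomial.C a)) = r₀.q (α₀ (MvPolynomial.C a))
  rw [← MvPolynomial.algebraMap_eq, α.commutes, α₀.commutes, r.q_algebraMap, r₀.q_algebraMap]

lemma isCompat_of_X (hα₀ : IsLift P R₀ α₀) {α : MvPolynomial ι A' →ₐ[A'] R'}
    (h : ∀ i, r.q (α (MvPolynomial.X i)) = r₀.q (α₀ (MvPolynomial.X i))) : IsCompat P r₀ α₀ r α :=
  ⟨fun F => by rw [← r.proj_q, algHom_comp_eq r₀ α₀ r h, r₀.proj_q, hα₀], algHom_comp_eq r₀ α₀ r h⟩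

lemma exists_isCompat (hα₀ : IsLift P R₀ α₀) : ∃ α, IsCompat P r₀ α₀ r α := by
  choose x hx using fun i => r.q_surjective (r₀.q (α₀ (MvPolynomial.X i)))
  exact ⟨MvPolynomial.aeval x, isCompat_of_X r₀ α₀ r hα₀ fun i => by rw [MvPolynomial.aeval_X, hx]⟩

variable (P) in
/-- `m` is the value of `α` at `f`. -/
def IsVal (α : MvPolynomial ι A' →ₐ[A'] R') (f : P.toExtension.Ring) (m : B ⊗[k] RingHom.ker p.toAlgHom) : Prop :=
  ∃ F, α F = 0 ∧ red P F = f ∧ theta hp R₀ m = α₀ F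

variable {hp} {r₀} {α₀} {r}

lemma IsCompat.mem_of_eq_zero {α : MvPolynomial ι A' →ₐ[A'] R'} (hα : IsCompat P r₀ α₀ r α)
    {G : MvPolynomial ι A'} (hG : α G = 0) : α₀ G ∈ (RingHom.ker p.toAlgHom).map (algebraMap A' R₀) :=
  r₀.q_eq_zero_iff.1 (by rw [← hα.q_eq, hG, map_zero])

lemma IsCompat.mem_of_eq_zero' {α : MvPolynomial ι A' →ₐ[A'] R'} (hα : IsCompat P r₀ α₀ r α)
    {G : MvPolynomial ι A'} (hG : α₀ G = 0) : α G ∈ (RingHom.ker p.toAlgHom).map (algebraMap A' R') :=
  r.q_eq_zero_iff.1 (by rw [hα.q_eq, hG, map_zero])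

lemma IsVal.unique {α : MvPolynomial ι A' →ₐ[A'] R'} (hα : IsCompat P r₀ α₀ r α) {f m m'}
    (h : IsVal hp P α₀ α f m) (h' : IsVal hp P α₀ α f m') : m = m' := by
  obtain ⟨F, h1, h2, h3⟩ := h
  obtain ⟨F', h1', h2', h3'⟩ := h'
  refine theta_injective hp (R' := R₀) (sub_eq_zero.1 ?_)
  rw [h3, h3', ← map_sub]
  exact map_eq_zero_of_mem_mul hp α₀ (fun G hG => hα.mem_of_eq_zero hG)
    (hα.isLift.mem_mul_ker (by rw [map_sub, h1, h1', sub_zero]) (by rw [map_sub, h2, h2', sub_self]))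

lemma IsVal.add {α : MvPolynomial ι A' →ₐ[A'] R'} {f g m n}
    (h : IsVal hp P α₀ α f m) (h' : IsVal hp P α₀ α g n) : IsVal hp P α₀ α (f + g) (m + n) := by
  obtain ⟨F, h1, h2, h3⟩ := h
  obtain ⟨F', h1', h2', h3'⟩ := h'
  exact ⟨F + F', by rw [map_add, h1, h1', add_zero], by rw [map_add, h2, h2'],
    by rw [map_add, map_add, h3, h3']⟩

lemma IsVal.smul (hα₀ : IsLift P R₀ α₀) {α : MvPolynomial ι A' →ₐ[A'] R'} {f m}
    (h : IsVal hp P α₀ α f m) (g : P.toExtension.Ring) :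
    IsVal hp P α₀ α (g * f) (algebraMap P.toExtension.Ring B g • m) := by
  obtain ⟨F, h1, h2, h3⟩ := h
  obtain ⟨G, rfl⟩ := red_surjective P (A := A') g
  exact ⟨G * F, by rw [map_mul, h1, mul_zero], by rw [map_mul, h2],
    by rw [← hα₀, theta_smul, map_mul, h3]⟩

variable (hp) in
lemma exists_isVal {α : MvPolynomial ι A' →ₐ[A'] R'} (hα : IsCompat P r₀ α₀ r α) {f}
    (hf : algebraMap P.toExtension.Ring B f = 0) : ∃ m, IsVal hp P α₀ α f m := by
  obtain ⟨F, h1, h2⟩ := hα.isLift.exists_ker_lift hf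
  obtain ⟨m, hm⟩ := exists_theta_eq hp (hα.mem_of_eq_zero h1)
  exact ⟨m, F, h1, h2, hm⟩

variable (hp P α₀) in
/-- The cocycle of a compatible lift. -/
def IsCocycleOf (α : MvPolynomial ι A' →ₐ[A'] R')
    (φ : CotT.cocycles1 P (B ⊗[k] RingHom.ker p.toAlgHom)) : Prop :=
  ∀ x, IsVal hp P α₀ α (CotT.jmap P x) ((φ : CotT.L1 P →ₗ[B] B ⊗[k] RingHom.ker p.toAlgHom) (CotTLib.mk1 P x))

variable (hp) in
lemma exists_isCocycleOf (hα₀ : IsLift P R₀ α₀) {α : MvPolynomial ι A' →ₐ[A'] R'}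
    (hα : IsCompat P r₀ α₀ r α) : ∃ φ, IsCocycleOf hp P α₀ α φ := by
  choose m hm using fun s => exists_isVal hp hα (CotT.algebraMap_rel P s)
  let φ : CotT.L1 P →ₗ[B] B ⊗[k] RingHom.ker p.toAlgHom := (CotT.L1basis P).constr B m
  have key : ∀ x, IsVal hp P α₀ α (CotT.jmap P x) (φ (CotTLib.mk1 P x)) := by
    intro x
    induction x using Finsupp.induction_linear with
    | zero => exact ⟨0, map_zero _, by rw [map_zero, map_zero], by rw [map_zero, map_zero, map_zero, map_zero]⟩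
    | add a b ha hb => rw [map_add, map_add, map_add]; exact ha.add hb
    | single s g =>
      rw [CotTLib.mk1_single, map_smul, Module.Basis.constr_basis, CotT.jmap_single]
      exact (hm s).smul hα₀ g
  refine ⟨⟨φ, LinearMap.mem_ker.mpr (CotTLib.L2_ext fun x => ?_)⟩, key⟩
  rw [CotT.d2Star_apply, LinearMap.comp_apply, CotTLib.d2_mk2, LinearMap.zero_apply]
  refine IsVal.unique hα (key _) ⟨0, map_zero _, ?_, by rw [map_zero, map_zero]⟩
  rw [map_zero]
  exact (x.2 : CotT.jmap P (x : CotT.relMod P) = 0).symm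

variable (hp) in
lemma exists_derivation {α β : MvPolynomial ι A' →ₐ[A'] R'} (hα : IsCompat P r₀ α₀ r α)
    (hβ : IsCompat P r₀ α₀ r β) : ∃ ψ : CotT.L0 P →ₗ[B] B ⊗[k] RingHom.ker p.toAlgHom,
      ∀ F, α F - β F = theta hp R' (ψ (CotTLib.dR P (red P F))) := by
  choose m hm using fun i => exists_theta_eq hp (x := α (MvPolynomial.X i) - β (MvPolynomial.X i))
    (r.q_eq_zero_iff.1 (by rw [map_sub, hα.q_eq, hβ.q_eq, sub_self]))
  refine ⟨P.cotangentSpaceBasis.constr B m, fun F => ?_⟩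
  induction F using MvPolynomial.induction_on with
  | C a =>
    rw [red_C, CotTLib.dR_algebraMap, map_zero, map_zero, ← MvPolynomial.algebraMap_eq, α.commutes,
      β.commutes, sub_self]
  | add F G hF hG =>
    rw [map_add (red P), CotTLib.dR_add, map_add, map_add, map_add, map_add, ← hF, ← hG,
      add_sub_add_comm]
  | mul_X F i hF =>
    rw [map_mul (red P), CotTLib.dR_mul, map_add, map_smul, map_smul, map_add, ← hα.isLift, theta_smul,
      ← hβ.isLift, theta_smul, ← hF, red_X, ← CotTLib.cotangentSpaceBasis_eq_dR,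
      Module.Basis.constr_basis, hm, map_mul, map_mul]
    ring

/-- Values of two lifts differ by the derivation. -/
lemma IsVal.shift (hα₀ : IsLift P R₀ α₀) {α β : MvPolynomial ι A' →ₐ[A'] R'}
    (hβ : IsCompat P r₀ α₀ r β) {ψ : CotT.L0 P →ₗ[B] B ⊗[k] RingHom.ker p.toAlgHom}
    (hψ : ∀ F, α F - β F = theta hp R' (ψ (CotTLib.dR P (red P F)))) {f m}
    (h : IsVal hp P α₀ α f m) : IsVal hp P α₀ β f (m + ψ (CotTLib.dR P f)) := by
  obtain ⟨F, h1, rfl, h3⟩ := h
  obtain ⟨H, -, hH0, hH⟩ := exists_univ P hp (ψ (CotTLib.dR P (red P F)))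
  refine ⟨F + H, ?_, by rw [map_add, hH0, add_zero], by rw [map_add, map_add, h3, hH R₀ α₀ hα₀]⟩
  rw [map_add, hH R' β hβ.isLift, ← hψ, h1, zero_sub, add_neg_cancel]

variable (hp P r₀ α₀ r) in
/-- The class of a lift in `T¹`. -/
def IsClassOf (x : CotT.T1 P (B ⊗[k] RingHom.ker p.toAlgHom)) : Prop :=
  ∃ α φ, IsCompat P r₀ α₀ r α ∧ IsCocycleOf hp P α₀ α φ ∧ Submodule.Quotient.mk φ = x

variable (hp r) in
lemma exists_isClassOf (hα₀ : IsLift P R₀ α₀) : ∃ x, IsClassOf hp P r₀ α₀ r x := by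
  obtain ⟨α, hα⟩ := exists_isCompat r₀ α₀ r hα₀
  obtain ⟨φ, hφ⟩ := exists_isCocycleOf hp hα₀ hα
  exact ⟨_, α, φ, hα, hφ, rfl⟩

lemma isClassOf_unique (hα₀ : IsLift P R₀ α₀) {x y} (hx : IsClassOf hp P r₀ α₀ r x)
    (hy : IsClassOf hp P r₀ α₀ r y) : x = y := by
  obtain ⟨α, φ, hα, hφ, rfl⟩ := hx
  obtain ⟨β, φ', hβ, hφ', rfl⟩ := hy
  obtain ⟨ψ, hψ⟩ := exists_derivation hp hα hβ
  have hmem : φ' - φ ∈ CotT.coboundaries1 P (B ⊗[k] RingHom.ker p.toAlgHom) := by
    refine ⟨ψ, CotTLib.L1_ext fun z => ?_⟩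
    have h := IsVal.unique hβ (hφ' z) ((hφ z).shift hα₀ hβ hψ)
    rw [CotT.d1Star_apply, LinearMap.comp_apply, CotTLib.d1_mk1, Submodule.subtype_apply, Submodule.coe_sub,
      LinearMap.sub_apply, h, add_sub_cancel_left]
  exact ((Submodule.Quotient.eq _).2 hmem).symm

lemma isClassOf_of_equiv {R'' : AlgDef B A'} {r' : Red p R'' R} (e : RedEquiv r r') {x}
    (hx : IsClassOf hp P r₀ α₀ r x) : IsClassOf hp P r₀ α₀ r' x := by
  obtain ⟨α, φ, hα, hφ, rfl⟩ := hx
  let γ : MvPolynomial ι A' →ₐ[A'] R'' :=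
    { e.e.toRingHom.comp α.toRingHom with
      commutes' := fun a => by
        change e.e (α (algebraMap A' _ a)) = _
        rw [α.commutes, e.e_algebraMap] }
  refine ⟨γ, φ, ⟨fun F => ?_, fun F => (e.q_e _).trans (hα.q_eq F)⟩, fun z => ?_, rfl⟩
  · change R''.proj (e.e (α F)) = _
    rw [← r'.proj_q, e.q_e, r.proj_q, hα.isLift]
  · obtain ⟨F, h1, h2, h3⟩ := hφ z
    exact ⟨F, (congrArg e.e h1).trans (map_zero e.e), h2, h3⟩

/-- The kernel of a compatible lift is determined by its cocycle. -/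
lemma IsCocycleOf.eq_zero_iff (hα₀ : IsLift P R₀ α₀) {α : MvPolynomial ι A' →ₐ[A'] R'} {φ}
    (hφ : IsCocycleOf hp P α₀ α φ) (hα : IsCompat P r₀ α₀ r α) (F : MvPolynomial ι A') :
    α F = 0 ↔ r₀.q (α₀ F) = 0 ∧ ∃ z, CotT.jmap P z = red P F ∧
      theta hp R₀ ((φ : CotT.L1 P →ₗ[B] B ⊗[k] RingHom.ker p.toAlgHom) (CotTLib.mk1 P z)) = α₀ F := by
  constructor
  · intro h
    obtain ⟨z, hz⟩ : ∃ z, CotT.jmap P z = red P F := by
      have hmem : red P F ∈ LinearMap.range (CotT.jmap P) := by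
        rw [CotT.range_jmap]
        exact (hα.isLift F).symm.trans (by rw [h, map_zero])
      exact hmem
    obtain ⟨m, hm⟩ := exists_theta_eq hp (hα.mem_of_eq_zero h)
    refine ⟨by rw [← hα.q_eq, h, map_zero], z, hz, ?_⟩
    rw [IsVal.unique hα (hφ z) ⟨F, h, hz.symm, hm⟩, hm]
  · rintro ⟨-, z, hz, hθ⟩
    obtain ⟨G, h1, h2, h3⟩ := hφ z
    have hD : α (F - G) = 0 := map_eq_zero_of_mem_mul hp α (fun G' hG' => hα.mem_of_eq_zero' hG')
      (hα₀.mem_mul_ker (by rw [map_sub, ← hθ, h3, sub_self]) (by rw [map_sub, h2, hz, sub_self]))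
    rwa [map_sub, h1, sub_zero] at hD

variable (hp) in
/-- Lifts with the same class are isomorphic. -/
theorem nonempty_redEquiv_of_class (hα₀ : IsLift P R₀ α₀) {R'' : AlgDef B A'} {r' : Red p R'' R} {x}
    (hx : IsClassOf hp P r₀ α₀ r x) (hy : IsClassOf hp P r₀ α₀ r' x) : Nonempty (RedEquiv r r') := by
  obtain ⟨α, φ, hα, hφ, rfl⟩ := hx
  obtain ⟨β, φ', hβ, hφ', hcl⟩ := hy
  have hmem : φ' - φ ∈ CotT.coboundaries1 P (B ⊗[k] RingHom.ker p.toAlgHom) := (Submodule.Quotient.eq _).1 hcl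
  obtain ⟨ψ, hψ⟩ : ∃ ψ, CotT.d1Star P _ ψ = Submodule.subtype _ (φ' - φ) := hmem
  obtain ⟨β', hβ', hφ''⟩ : ∃ β', IsCompat P r₀ α₀ r' β' ∧ IsCocycleOf hp P α₀ β' φ := by
    let β' : MvPolynomial ι A' →ₐ[A'] R'' := MvPolynomial.aeval fun i =>
      β (MvPolynomial.X i) + theta hp R'' (ψ (P.cotangentSpaceBasis i))
    have hX : ∀ i, β' (MvPolynomial.X i) = β (MvPolynomial.X i) + theta hp R'' (ψ (P.cotangentSpaceBasis i)) :=
      fun i => MvPolynomial.aeval_X _ i
    have hβ' : IsCompat P r₀ α₀ r' β' := isCompat_of_X r₀ α₀ r' hα₀ fun i => by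
      rw [hX, map_add, r'.q_eq_zero_iff.2 (theta_mem hp _), add_zero, hβ.q_eq]
    obtain ⟨ψ', hψ'⟩ := exists_derivation hp hβ' hβ
    have he : ψ' = ψ := P.cotangentSpaceBasis.ext fun i => theta_injective hp (by
      have := hψ' (MvPolynomial.X i)
      rw [red_X, ← CotTLib.cotangentSpaceBasis_eq_dR, hX, add_sub_cancel_left] at this
      exact this.symm)
    obtain ⟨φ'', hφ''⟩ := exists_isCocycleOf hp hα₀ hβ'
    refine ⟨β', hβ', fun z => ?_⟩
    have h1 := IsVal.unique hβ (hφ' z) ((hφ'' z).shift hα₀ hβ hψ')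
    have h2 := LinearMap.congr_fun hψ (CotTLib.mk1 P z)
    rw [CotT.d1Star_apply, LinearMap.comp_apply, CotTLib.d1_mk1, Submodule.subtype_apply, Submodule.coe_sub,
      LinearMap.sub_apply, ← he, h1] at h2
    have h3 : (φ : CotT.L1 P →ₗ[B] B ⊗[k] RingHom.ker p.toAlgHom) (CotTLib.mk1 P z) = (φ'' : CotT.L1 P →ₗ[B] B ⊗[k] RingHom.ker p.toAlgHom) (CotTLib.mk1 P z) := by
      linear_combination (norm := abel) h2
    rw [h3]
    exact hφ'' z
  have hker : RingHom.ker α.toRingHom = RingHom.ker β'.toRingHom := Ideal.ext fun F =>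
    (hφ.eq_zero_iff hα₀ hα F).trans (hφ''.eq_zero_iff hα₀ hβ' F).symm
  let e : R' ≃+* R'' := ((RingHom.quotientKerEquivOfSurjective (f := α.toRingHom) hα.isLift.surjective).symm.trans
    (Ideal.quotEquivOfEq hker)).trans
      (RingHom.quotientKerEquivOfSurjective (f := β'.toRingHom) hβ'.isLift.surjective)
  have he : ∀ F, e (α F) = β' F := by
    intro F
    have h1 : (RingHom.quotientKerEquivOfSurjective (f := α.toRingHom) hα.isLift.surjective).symm (α F) =
        Ideal.Quotient.mk _ F := by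
      rw [RingEquiv.symm_apply_eq]; rfl
    simp only [e, RingEquiv.trans_apply, h1]
    rfl
  refine ⟨⟨e, fun a => ?_, fun y => ?_⟩⟩
  · rw [← α.commutes a, he, β'.commutes]
  · obtain ⟨F, rfl⟩ := hα.isLift.surjective y
    rw [he, hβ'.q_eq, hα.q_eq]

variable (hp) in
/-- Every cocycle comes from a lift. -/
theorem exists_red_of_cocycle (hα₀ : IsLift P R₀ α₀) (φ : CotT.cocycles1 P (B ⊗[k] RingHom.ker p.toAlgHom)) :
    ∃ (R' : AlgDef B A') (r : Red p R' R), IsClassOf hp P r₀ α₀ r (Submodule.Quotient.mk φ) := by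
  have hcoc : ∀ z, CotT.jmap P z = 0 → (φ : CotT.L1 P →ₗ[B] B ⊗[k] RingHom.ker p.toAlgHom) (CotTLib.mk1 P z) = 0 := fun z hz => by
    rw [← CotTLib.d2_mk2 P ⟨z, hz⟩]
    exact LinearMap.congr_fun (show CotT.d2Star P _ (φ : CotT.L1 P →ₗ[B] B ⊗[k] RingHom.ker p.toAlgHom) = 0 from φ.2) _
  have hproj : ∀ F, R.proj (r₀.q (α₀ F)) = algebraMap P.toExtension.Ring B (red P F) := fun F => by
    rw [r₀.proj_q, hα₀]
  have hjmap : ∀ F, r₀.q (α₀ F) = 0 → ∃ z, CotT.jmap P z = red P F := fun F h => by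
    have hmem : red P F ∈ LinearMap.range (CotT.jmap P) := by
      rw [CotT.range_jmap]
      exact (hproj F).symm.trans (by rw [h, map_zero])
    exact hmem
  let I : Ideal (MvPolynomial ι A') :=
    { carrier := {F | r₀.q (α₀ F) = 0 ∧ ∃ z, CotT.jmap P z = red P F ∧
        theta hp R₀ ((φ : CotT.L1 P →ₗ[B] B ⊗[k] RingHom.ker p.toAlgHom) (CotTLib.mk1 P z)) = α₀ F}
      zero_mem' := ⟨by rw [map_zero, map_zero], 0, by rw [map_zero, map_zero],
        by rw [map_zero, map_zero, map_zero, map_zero]⟩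
      add_mem' := by
        rintro F G ⟨h1, z, h2, h3⟩ ⟨h4, w, h5, h6⟩
        exact ⟨by rw [map_add, map_add, h1, h4, add_zero], z + w, by rw [map_add, map_add, h2, h5],
          by rw [map_add, map_add, map_add, map_add, h3, h6]⟩
      smul_mem' := by
        rintro G F ⟨h1, z, h2, h3⟩
        refine ⟨by rw [smul_eq_mul, map_mul, map_mul, h1, mul_zero], red P G • z, ?_, ?_⟩
        · rw [map_smul, h2, smul_eq_mul, smul_eq_mul, map_mul]
        · rw [(CotTLib.mk1 P).map_smulₛₗ, map_smul, ← hα₀, theta_smul, h3, smul_eq_mul, map_mul] }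
  -- the elements of `J A'[x]` in `I`
  have huniv : ∀ m H, red P H = 0 → α₀ H = theta hp R₀ m → H ∈ I → m = 0 := by
    rintro m H h0 hH ⟨-, z, hz, hθ⟩
    rw [hcoc z (hz.trans h0), map_zero, hH] at hθ
    exact theta_injective hp (hθ.symm.trans (map_zero _).symm)
  have hI : ∀ F ∈ I, r₀.q (α₀ F) = 0 := fun F hF => hF.1
  let q : MvPolynomial ι A' ⧸ I →+* R := Ideal.Quotient.lift I (r₀.q.comp α₀.toRingHom) hI
  have hq : ∀ F, q (Ideal.Quotient.mk I F) = r₀.q (α₀ F) := fun F => rfl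
  have hqs : Function.Surjective q := fun y => by
    obtain ⟨x, rfl⟩ := r₀.q_surjective y
    obtain ⟨F, rfl⟩ := hα₀.surjective x
    exact ⟨Ideal.Quotient.mk I F, hq F⟩
  have hmk : (Ideal.Quotient.mk I).comp MvPolynomial.C = algebraMap A' (MvPolynomial ι A' ⧸ I) := rfl
  have hsm : ∀ (a : A') (y : MvPolynomial ι A' ⧸ I), a • y = algebraMap A' _ a * y := fun a y =>
    Algebra.smul_def a y
  have hqa : ∀ a, q (algebraMap A' _ a) = algebraMap A R (p.toAlgHom a) := fun a => by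
    rw [← hmk, RingHom.comp_apply, hq, ← MvPolynomial.algebraMap_eq, α₀.commutes, r₀.q_algebraMap]
  have hkq : RingHom.ker q ≤ (RingHom.ker p.toAlgHom).map (algebraMap A' (MvPolynomial ι A' ⧸ I)) := by
    intro y hy
    obtain ⟨F, rfl⟩ := Ideal.Quotient.mk_surjective y
    rw [RingHom.mem_ker, hq] at hy
    obtain ⟨z, hz⟩ := hjmap F hy
    obtain ⟨m, hm⟩ := exists_theta_eq hp (r₀.q_eq_zero_iff.1 hy)
    obtain ⟨H, hHJ, hH0, hH⟩ := exists_univ P hp (m - (φ : CotT.L1 P →ₗ[B] B ⊗[k] RingHom.ker p.toAlgHom) (CotTLib.mk1 P z))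
    have : F - H ∈ I := ⟨by rw [map_sub, map_sub, hy, hH R₀ α₀ hα₀,
        r₀.q_eq_zero_iff.2 (theta_mem hp _), sub_zero],
      z, by rw [map_sub, hH0, sub_zero, hz], by rw [map_sub, hH R₀ α₀ hα₀, map_sub, hm, sub_sub_cancel]⟩
    rw [show Ideal.Quotient.mk I F = Ideal.Quotient.mk I H from Ideal.Quotient.eq.2 this, ← hmk, ← Ideal.map_map]
    exact Ideal.mem_map_of_mem _ hHJ
  have hkp : RingHom.ker (R.proj.comp q) ≤ (maximalIdeal A').map (algebraMap A' (MvPolynomial ι A' ⧸ I)) := by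
    intro y hy
    obtain ⟨F, rfl⟩ := Ideal.Quotient.mk_surjective y
    have h0 : R₀.proj (α₀ F) = 0 := by rw [← r₀.proj_q, ← hq]; exact hy
    obtain ⟨H, hH, hHF⟩ := hα₀.exists_map_eq (maximalIdeal A') (R₀.ker_proj_le h0)
    rw [show Ideal.Quotient.mk I F = Ideal.Quotient.mk I H + Ideal.Quotient.mk I (F - H) by
      rw [← map_add, add_sub_cancel]]
    refine Ideal.add_mem _ ?_ (Ideal.map_mono (ker_le_maximalIdeal p) (hkq ?_))
    · rw [← hmk, ← Ideal.map_map]
      exact Ideal.mem_map_of_mem _ hH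
    · rw [RingHom.mem_ker, hq, map_sub, hHF, sub_self, map_zero]
  have hps : Function.Surjective (R.proj.comp q) := R.proj_surjective.comp hqs
  have hpa : ∀ a, R.proj.comp q (algebraMap A' _ a) = algebraMap k B (A'.res a) := fun a => by
    rw [RingHom.comp_apply, hqa, R.proj_algebraMap, ArtFun.Art.res_app]
  -- freeness
  have hflat : Module.Flat A' (MvPolynomial ι A' ⧸ I) := by
    let e := Module.Basis.ofVectorSpace k B
    choose v hv using fun i => hps (e i)
    have hli : LinearIndependent A' v := by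
      classical
      rw [linearIndependent_iff]
      intro c hc
      have hR : LinearIndependent A (fun i => q (v i)) :=
        R.linearIndependent _ (by rw [show R.proj ∘ (fun i => q (v i)) = e from funext hv]; exact e.linearIndependent)
      have hc' : Finsupp.linearCombination A (fun i => q (v i)) (c.mapRange p.toAlgHom (map_zero _)) = 0 := by
        rw [Finsupp.linearCombination_apply, Finsupp.sum_mapRange_index (by intro i; exact zero_smul A (q (v i))),
          ← map_zero q, ← hc, Finsupp.linearCombination_apply, map_finsuppSum]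
        exact Finsupp.sum_congr fun i _ => by
          simp only [Algebra.smul_def, hsm, map_mul, hqa]
      have hJ : ∀ i, c i ∈ RingHom.ker p.toAlgHom := fun i => by
        simpa using DFunLike.congr_fun (linearIndependent_iff.1 hR _ hc') i
      let c' : _ →₀ RingHom.ker p.toAlgHom := Finsupp.onFinset c.support (fun i => ⟨c i, hJ i⟩)
        fun i h => Finsupp.mem_support_iff.2 fun h0 => h (Subtype.ext h0)
      choose V hV using fun i => Ideal.Quotient.mk_surjective (v i)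
      have hz : ∑ i ∈ c.support, e i ⊗ₜ[k] c' i = 0 := by
        refine huniv _ (∑ i ∈ c.support, MvPolynomial.C (c i) * V i) ?_ ?_ ?_
        · rw [map_sum]
          exact Finset.sum_eq_zero fun i _ => by
            rw [map_mul, red_C, res_eq_zero (ker_le_maximalIdeal p (hJ i)), map_zero, zero_mul]
        · rw [map_sum, map_sum]
          refine Finset.sum_congr rfl fun i _ => ?_
          rw [← hv i, RingHom.comp_apply, ← hV i, hq, hproj, ← hα₀, theta_tmul, map_mul,
            ← MvPolynomial.algebraMap_eq, α₀.commutes]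
          rfl
        · rw [← Ideal.Quotient.eq_zero_iff_mem, map_sum, ← hc, Finsupp.linearCombination_apply]
          exact Finset.sum_congr rfl fun i _ => by
            rw [map_mul, hV]; exact (hsm _ _).symm
      refine Finsupp.ext fun i => ?_
      by_contra h0
      have h := congrArg (fun z => TensorProduct.equivFinsuppOfBasisLeft e z i) hz
      simp only [map_sum, map_zero, Finsupp.finsetSum_apply, TensorProduct.equivFinsuppOfBasisLeft_apply_tmul,
        Module.Basis.repr_self, Finsupp.mapRange_single, one_smul, Finsupp.zero_apply] at h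
      rw [Finset.sum_eq_single i (fun j _ hj => Finsupp.single_eq_of_ne hj.symm)
        (fun hni => absurd (Finsupp.mem_support_iff.2 h0) hni), Finsupp.single_eq_same] at h
      exact h0 (congrArg Subtype.val h)
    have hsp : ⊤ ≤ Submodule.span A' (Set.range v) := by
      refine (Groth.Agent.FlatBasics.eq_top_of_sup_smul_top_of_isNilpotent (isNilpotent_maximalIdeal A') ?_).ge
      refine eq_top_iff.2 fun y _ => ?_
      have : y = Finsupp.linearCombination A' v ((e.repr (R.proj.comp q y)).mapRange (algebraMap k A') (map_zero _))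
          + (y - Finsupp.linearCombination A' v ((e.repr (R.proj.comp q y)).mapRange (algebraMap k A') (map_zero _))) :=
        (add_sub_cancel _ _).symm
      rw [this]
      refine Submodule.add_mem_sup (Finsupp.mem_span_range_iff_exists_finsupp.2 ⟨_, rfl⟩) ?_
      rw [Ideal.smul_top_eq_map]
      refine hkp (?_ : R.proj.comp q _ = 0)
      rw [map_sub, sub_eq_zero, Finsupp.linearCombination_apply,
        Finsupp.sum_mapRange_index (by intro i; exact zero_smul A' (v i)), map_finsuppSum]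
      conv_lhs => rw [← e.linearCombination_repr (R.proj.comp q y), Finsupp.linearCombination_apply]
      refine Finsupp.sum_congr fun i _ => ?_
      rw [Algebra.smul_def, hsm, map_mul (R.proj.comp q), hpa, hv, AlgHom.commutes,
        Algebra.algebraMap_self, RingHom.id_apply]
    have : Module.Free A' (MvPolynomial ι A' ⧸ I) := Module.Free.of_basis (.mk hli hsp)
    infer_instance
  let R' : AlgDef B A' :=
    { carrier := MvPolynomial ι A' ⧸ I
      proj := R.proj.comp q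
      proj_algebraMap := hpa
      proj_surjective := hps
      ker_proj_le := hkp
      flat := hflat }
  refine ⟨R', ⟨q, hqa, fun x => rfl, hqs, hkq⟩, (Ideal.Quotient.mkₐ A' I), φ,
    ⟨fun F => hproj F, fun F => rfl⟩, fun z => ?_, rfl⟩
  obtain ⟨F, hF0, hF⟩ := hα₀.exists_ker_lift (CotT.algebraMap_jmap P z)
  obtain ⟨H, -, hH0, hH⟩ :=
    exists_univ P hp ((φ : CotT.L1 P →ₗ[B] B ⊗[k] RingHom.ker p.toAlgHom) (CotTLib.mk1 P z))
  have hval : α₀ (F + H) =
      theta hp R₀ ((φ : CotT.L1 P →ₗ[B] B ⊗[k] RingHom.ker p.toAlgHom) (CotTLib.mk1 P z)) := by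
    rw [map_add, hF0, zero_add, hH R₀ α₀ hα₀]
  have hred : red P (F + H) = CotT.jmap P z := by rw [map_add, hH0, add_zero, hF]
  exact ⟨F + H, Ideal.Quotient.eq_zero_iff_mem.2
    ⟨by rw [hval, r₀.q_eq_zero_iff.2 (theta_mem hp _)], z, hred.symm, hval.symm⟩, hred, hval.symm⟩

/-- Lifts of `R` along `p` are classified by `T¹`. -/
theorem exists_classify (hp : maximalIdeal A' * RingHom.ker p.toAlgHom = ⊥) (P : Algebra.Presentation k B ι σ)
    (r₀ : Red p R₀ R) :
    ∃ cl : (Σ R' : AlgDef B A', Red p R' R) → CotT.T1 P (B ⊗[k] RingHom.ker p.toAlgHom),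
      Function.Surjective cl ∧ ∀ a b, cl a = cl b ↔ Nonempty (RedEquiv a.2 b.2) := by
  obtain ⟨α₀, hα₀⟩ := exists_isLift (P := P) R₀
  choose cl hcl using fun a : Σ R' : AlgDef B A', Red p R' R =>
    exists_isClassOf (P := P) (r₀ := r₀) (α₀ := α₀) hp a.2 hα₀
  refine ⟨cl, fun x => ?_, fun a b => ⟨fun h => ?_, fun ⟨e⟩ => ?_⟩⟩
  · obtain ⟨φ, rfl⟩ := Submodule.Quotient.mk_surjective _ x
    obtain ⟨R', r, hr⟩ := exists_red_of_cocycle (r₀ := r₀) hp hα₀ φ
    exact ⟨⟨R', r⟩, isClassOf_unique hα₀ (hcl _) hr⟩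
  · exact nonempty_redEquiv_of_class hp hα₀ (hcl a) (h ▸ hcl b)
  · exact isClassOf_unique hα₀ (isClassOf_of_equiv e (hcl a)) (hcl b)

end DefAff

end
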