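import Groth.Agent.DefAff.Spec

/-!
# Extensions of an affine deformation along a small surjection form a `T¹`-torsor
-/

noncomputable section

universe u

open CategoryTheory CategoryTheory.Limits AlgebraicGeometry IsLocalRing TensorProduct

namespace DefAff

variable {k : Type u} [Field k]

section General

variable {X : Scheme.{u}} {x : X ⟶ ArtFun.Art.specPt k} {A A' : ArtFun.Art k k} {p : A' ⟶ A}
variable {ξ : ArtFun.DefSch X x A} {α β : ArtFun.DefSch X x A'}

/-- Compatibility of an isomorphism with two identifications of the base changes, read on `ξ`. -/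
lemma compat_iff (ea : (α.baseChange p).Iso ξ) (eb : (β.baseChange p).Iso ξ) (ψ : α.Iso β) :
    ((ψ.baseChange p).trans eb).iso = ea.iso ↔
      ea.iso.inv ≫ pullback.fst _ _ ≫ ψ.iso.hom = eb.iso.inv ≫ pullback.fst _ _ := by
  constructor
  · intro h
    have h2 : ea.iso.inv ≫ (ψ.baseChange p).iso.hom = eb.iso.inv := by
      rw [← h, ArtFun.DefSch.Iso.trans, CategoryTheory.Iso.trans_inv, Category.assoc, Iso.inv_hom_id,
        Category.comp_id]
    rw [← h2, Category.assoc, ← ArtFun.DefSch.pullMap_fst ψ.iso.hom ψ.hom_f p]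
    rfl
  · intro h
    refine Iso.ext ?_
    have h2 : (ψ.baseChange p).iso.hom = ea.iso.hom ≫ eb.iso.inv := by
      apply pullback.hom_ext
      · rw [Category.assoc, ← h, Iso.hom_inv_id_assoc]
        exact ArtFun.DefSch.pullMap_fst ψ.iso.hom ψ.hom_f p
      · rw [Category.assoc, show eb.iso.inv ≫ pullback.snd β.f (ArtFun.Art.specMap p) = ξ.f from eb.symm.hom_f,
          ea.hom_f]
        exact ArtFun.DefSch.pullMap_snd ψ.iso.hom ψ.hom_f p
    rw [ArtFun.DefSch.Iso.trans, CategoryTheory.Iso.trans_hom, h2, Category.assoc, Iso.inv_hom_id,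
      Category.comp_id]

lemma inv_fst_symm_baseChange {α' : ArtFun.DefSch X x A'} (u : α.Iso α') {ζ : ArtFun.DefSch X x A}
    (ea : (α.baseChange p).Iso ξ) (v : ξ.Iso ζ) :
    ((u.symm.baseChange p).trans (ea.trans v)).iso.inv ≫ pullback.fst _ _ =
      v.iso.inv ≫ (ea.iso.inv ≫ pullback.fst _ _) ≫ u.iso.hom := by
  simp only [ArtFun.DefSch.Iso.trans, CategoryTheory.Iso.trans_inv, Category.assoc]
  refine congrArg (v.iso.inv ≫ ea.iso.inv ≫ ·) ?_
  exact ArtFun.DefSch.pullMap_fst u.iso.hom u.hom_f p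

/-- Over the base field there is exactly one deformation up to unique isomorphism. -/
lemma base_iso_unique {η : ArtFun.DefSch X x (ArtFun.Art.base k k)} {hx : Flat x}
    (e e' : η.Iso (ArtFun.DefSch.self X x hx)) : e.iso = e'.iso := by
  have : IsIso η.i :=
    MorphismProperty.of_isPullback (P := MorphismProperty.isomorphisms Scheme) η.isPullback.flip
      (MorphismProperty.isomorphisms.infer_property _)
  exact Iso.ext ((cancel_epi η.i).1 (e.i_hom.trans e'.i_hom.symm))

/-- The identification of a deformation over the base field with the scheme itself. -/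
def baseIso (η : ArtFun.DefSch X x (ArtFun.Art.base k k)) (hx : Flat x) : η.Iso (ArtFun.DefSch.self X x hx) :=
  haveI : IsIso η.i :=
    MorphismProperty.of_isPullback (P := MorphismProperty.isomorphisms Scheme) η.isPullback.flip
      (MorphismProperty.isomorphisms.infer_property _)
  { iso := (asIso η.i).symm
    hom_f := by
      rw [Iso.symm_hom, asIso_inv]
      change inv η.i ≫ x = η.f
      rw [IsIso.inv_comp_eq]
      exact (η.i_f.trans (ArtFun.Art.comp_specRes_base x)).symm
    i_hom := (asIso η.i).hom_inv_id }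

end General

lemma dual_mul_eq_zero {a b : DualNumber k} (ha : TrivSqZeroExt.fst a = 0) (hb : TrivSqZeroExt.fst b = 0) :
    a * b = 0 :=
  TrivSqZeroExt.ext (by simp [ha, hb]) (by simp [ha, hb])

lemma smul_eps_injective {c c' : k} (h : c • (DualNumber.eps : DualNumber k) = c' • DualNumber.eps) : c = c' := by
  simpa using congrArg TrivSqZeroExt.snd h

lemma eq_smul_eps {b : DualNumber k} (hb : TrivSqZeroExt.fst b = 0) :
    b = TrivSqZeroExt.snd b • (DualNumber.eps : DualNumber k) :=
  TrivSqZeroExt.ext (by simp [hb]) (by simp)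

variable {B : Type u} [CommRing B] [Algebra k B] {A A' : ArtFun.Art k k} {p : A' ⟶ A}
variable {R : AlgDef B A}

theorem nonempty_redEquiv_iff {Ra Rb : AlgDef B A'} {ra : Red p Ra R} {rb : Red p Rb R}
    {ea : (Ra.toSch.baseChange p).Iso R.toSch} {eb : (Rb.toSch.baseChange p).Iso R.toSch}
    (ha : Spec.map (CommRingCat.ofHom ra.q) = ea.iso.inv ≫ pullback.fst _ _)
    (hb : Spec.map (CommRingCat.ofHom rb.q) = eb.iso.inv ≫ pullback.fst _ _) :
    Nonempty (RedEquiv ra rb) ↔
      ∃ ψ : Ra.toSch.Iso Rb.toSch,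
        ea.iso.inv ≫ pullback.fst _ _ ≫ ψ.iso.hom = eb.iso.inv ≫ pullback.fst _ _ := by
  constructor
  · rintro ⟨e⟩
    let i : CommRingCat.of Rb ≅ CommRingCat.of Ra := e.e.symm.toCommRingCatIso
    refine ⟨⟨Scheme.Spec.mapIso i.op, ?_, ?_⟩, ?_⟩
    · change Spec.map i.hom ≫ Spec.map (CommRingCat.ofHom (algebraMap A' Rb)) = _
      rw [← Spec.map_comp]
      refine congrArg _ (CommRingCat.hom_ext (RingHom.ext fun a => ?_))
      exact e.e.symm_apply_eq.2 (e.e_algebraMap a).symm
    · change Spec.map (CommRingCat.ofHom Ra.proj) ≫ Spec.map i.hom = _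
      rw [← Spec.map_comp]
      refine congrArg _ (CommRingCat.hom_ext (RingHom.ext fun y => ?_))
      change Ra.proj (e.e.symm y) = Rb.proj y
      rw [← ra.proj_q, ← e.q_e, e.e.apply_symm_apply, rb.proj_q]
    · rw [← Category.assoc, ← ha, ← hb]
      change _ ≫ Spec.map i.hom = _
      rw [← Spec.map_comp]
      refine congrArg _ (CommRingCat.hom_ext (RingHom.ext fun y => ?_))
      change ra.q (e.e.symm y) = rb.q y
      rw [← e.q_e, e.e.apply_symm_apply]
  · rintro ⟨ψ, h⟩
    rw [← Category.assoc, ← ha, ← hb] at h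
    let i : CommRingCat.of Rb ≅ CommRingCat.of Ra :=
      { hom := Spec.preimage ψ.iso.hom
        inv := Spec.preimage ψ.iso.inv
        hom_inv_id := by rw [← Spec.preimage_comp]; simp
        inv_hom_id := by rw [← Spec.preimage_comp]; simp }
    have hi : Spec.map i.hom = ψ.iso.hom := Spec.map_preimage _
    have h1 : CommRingCat.ofHom (algebraMap A' Rb) ≫ i.hom = CommRingCat.ofHom (algebraMap A' Ra) :=
      Spec.map_injective (by rw [Spec.map_comp, hi]; exact ψ.hom_f)
    have h2 : i.hom ≫ CommRingCat.ofHom ra.q = CommRingCat.ofHom rb.q :=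
      Spec.map_injective (by rw [Spec.map_comp, hi]; exact h)
    refine ⟨⟨i.symm.commRingCatIsoToRingEquiv, fun a => ?_, fun y => ?_⟩⟩
    · change i.inv (algebraMap A' Ra a) = _
      rw [show algebraMap A' Ra a = i.hom (algebraMap A' Rb a) from
        (congrArg (fun χ : CommRingCat.of A' ⟶ CommRingCat.of Ra => χ.hom a) h1).symm]
      exact Iso.hom_inv_id_apply i _
    · change rb.q (i.inv y) = ra.q y
      refine (congrArg (fun χ : CommRingCat.of Rb ⟶ CommRingCat.of R => χ.hom (i.inv y)) h2).symm.trans ?_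
      exact congrArg ra.q (Iso.inv_hom_id_apply i y)

variable (B) in
lemma flat_structure : Flat (Spec.map (CommRingCat.ofHom (algebraMap k B))) :=
  (HasRingHomProperty.Spec_iff (P := @Flat)).2 (RingHom.flat_algebraMap_iff.2 inferInstance)

/-- The lifts of a deformation of `Spec B` along a small surjection, with their identification, are classified by
`T¹(B/k, B ⊗ J)`. -/
theorem nonempty_equiv_extensions {ι σ : Type u} (P : Algebra.Presentation k B ι σ)
    (hp : ArtFun.Art.IsSemismallExt p)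
    (𝒳 : ArtFun.DefSch (Spec (CommRingCat.of B)) (Spec.map (CommRingCat.ofHom (algebraMap k B))) A)
    (hne : ∃ 𝒳' : ArtFun.DefSch (Spec (CommRingCat.of B)) (Spec.map (CommRingCat.ofHom (algebraMap k B))) A',
      Nonempty ((𝒳'.baseChange p).Iso 𝒳)) :
    Nonempty (Quot (fun a b : (Σ 𝒳' : ArtFun.DefSch (Spec (CommRingCat.of B))
          (Spec.map (CommRingCat.ofHom (algebraMap k B))) A', (𝒳'.baseChange p).Iso 𝒳) =>
        ∃ ψ : a.1.Iso b.1, ((ψ.baseChange p).trans b.2).iso = a.2.iso) ≃
      CotT.T1 P (B ⊗[k] RingHom.ker p.toAlgHom)) := by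
  obtain ⟨R, ⟨v⟩⟩ := exists_iso_toSch 𝒳
  choose Rf hRf using fun a : (Σ 𝒳' : ArtFun.DefSch (Spec (CommRingCat.of B))
      (Spec.map (CommRingCat.ofHom (algebraMap k B))) A', (𝒳'.baseChange p).Iso 𝒳) => exists_iso_toSch a.1
  let uf := fun a => (hRf a).some
  let ef := fun a => ((uf a).symm.baseChange p).trans (a.2.trans v)
  choose rf hrf using fun a => exists_red_of_iso hp.1 (ef a)
  obtain ⟨𝒳₀, ⟨e₀⟩⟩ := hne
  obtain ⟨cl, hsurj, hcl⟩ := exists_classify (p := p) hp.2 P (rf ⟨𝒳₀, e₀⟩)
  have key : ∀ a b, (∃ ψ : a.1.Iso b.1, ((ψ.baseChange p).trans b.2).iso = a.2.iso) ↔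
      cl ⟨Rf a, rf a⟩ = cl ⟨Rf b, rf b⟩ := by
    intro a b
    rw [hcl, nonempty_redEquiv_iff (hrf a) (hrf b)]
    constructor
    · rintro ⟨ψ, hψ⟩
      rw [compat_iff] at hψ
      refine ⟨(uf a).symm.trans (ψ.trans (uf b)), ?_⟩
      rw [← Category.assoc, inv_fst_symm_baseChange, inv_fst_symm_baseChange, ← hψ]
      simp [ArtFun.DefSch.Iso.trans, ArtFun.DefSch.Iso.symm]
    · rintro ⟨w, hw⟩
      refine ⟨(uf a).trans (w.trans (uf b).symm), (compat_iff _ _ _).2 ?_⟩
      rw [← Category.assoc, inv_fst_symm_baseChange, inv_fst_symm_baseChange] at hw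
      have hw' := congrArg (fun χ => (v.iso.hom ≫ χ) ≫ (uf b).iso.inv) hw
      simpa [ArtFun.DefSch.Iso.trans, ArtFun.DefSch.Iso.symm] using hw'
  refine ⟨Equiv.ofBijective (Quot.lift (fun a => cl ⟨Rf a, rf a⟩) fun a b h => (key a b).1 h) ⟨?_, ?_⟩⟩
  · intro a b
    induction a using Quot.ind with | _ a => ?_
    induction b using Quot.ind with | _ b => ?_
    exact fun h => Quot.sound ((key a b).2 h)
  · intro t
    obtain ⟨⟨R', r⟩, rfl⟩ := hsurj t
    obtain ⟨e, he⟩ := exists_iso_of_red hp.1 r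
    let a : (Σ 𝒳' : ArtFun.DefSch (Spec (CommRingCat.of B))
        (Spec.map (CommRingCat.ofHom (algebraMap k B))) A', (𝒳'.baseChange p).Iso 𝒳) := ⟨R'.toSch, e.trans v.symm⟩
    refine ⟨Quot.mk _ a, ((hcl ⟨R', r⟩ ⟨Rf a, rf a⟩).2 ((nonempty_redEquiv_iff he.symm (hrf a)).2
      ⟨uf a, ?_⟩)).symm⟩
    rw [inv_fst_symm_baseChange]
    simp [a, ArtFun.DefSch.Iso.trans, ArtFun.DefSch.Iso.symm]

/-- Deformations over `k[ε]` are classified by `T¹(B/k, B)`. -/
theorem nonempty_equiv_dual {ι σ : Type u} (P : Algebra.Presentation k B ι σ) :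
    Nonempty ((ArtFun.defFunctor (Λ := k) (Spec (CommRingCat.of B))
      (Spec.map (CommRingCat.ofHom (algebraMap k B)))).obj (ArtFun.Art.dual k k) ≃ CotT.T1 P B) := by
  let D : ArtFun.Art k k := ArtFun.Art.dual k k
  let p : D ⟶ ArtFun.Art.base k k := ArtFun.Art.toBase D
  have hp : ArtFun.Art.IsSemismallExt p := by
    refine ⟨D.res_surjective, le_bot_iff.1 (Ideal.mul_le.2 fun a ha b hb => ?_)⟩
    have ha0 : TrivSqZeroExt.fst (a : DualNumber k) = 0 := res_eq_zero ha
    have hb0 : TrivSqZeroExt.fst (b : DualNumber k) = 0 := RingHom.mem_ker.1 hb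
    exact (dual_mul_eq_zero ha0 hb0 : _)
  let hx := flat_structure (k := k) B
  let 𝒳 := ArtFun.DefSch.self (Λ := k) (Spec (CommRingCat.of B)) (Spec.map (CommRingCat.ofHom (algebraMap k B))) hx
  obtain ⟨e1⟩ := nonempty_equiv_extensions P hp 𝒳 ⟨ArtFun.DefSch.trivial _ _ hx D, ⟨baseIso _ hx⟩⟩
  -- the ideal `(ε)` is a copy of `k`
  let f : k →ₗ[k] RingHom.ker p.toAlgHom :=
    LinearMap.toSpanSingleton k _ ⟨(DualNumber.eps : DualNumber k), by
      rw [RingHom.mem_ker]; exact TrivSqZeroExt.fst_inr k (1 : k)⟩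
  have hf : Function.Bijective f := by
    have hfv : ∀ c, ((f c : D) : DualNumber k) = c • DualNumber.eps := fun c => rfl
    constructor
    · intro c c' h
      exact smul_eps_injective (k := k) ((hfv c).symm.trans ((congrArg Subtype.val h).trans (hfv c')))
    · rintro ⟨b, hb⟩
      refine ⟨TrivSqZeroExt.snd (b : DualNumber k), Subtype.ext ?_⟩
      exact (eq_smul_eps (k := k) (b := (b : DualNumber k)) (RingHom.mem_ker.1 hb)).symm
  let g : B ≃ₗ[B] B ⊗[k] RingHom.ker p.toAlgHom :=
    (TensorProduct.AlgebraTensorModule.rid k B B).symm.trans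
      (TensorProduct.AlgebraTensorModule.congr (LinearEquiv.refl B B) (LinearEquiv.ofBijective f hf))
  have hT : ∀ {M N : Type u} [AddCommGroup M] [Module B M] [AddCommGroup N] [Module B N] (g : M ≃ₗ[B] N)
      (z : CotT.T1 P M), CotT.T1map P g.symm.toLinearMap (CotT.T1map P g.toLinearMap z) = z := by
    intro M N _ _ _ _ g z
    obtain ⟨φ, rfl⟩ := Submodule.Quotient.mk_surjective _ z
    refine congrArg Submodule.Quotient.mk (Subtype.ext (LinearMap.ext fun w => ?_))
    exact g.symm_apply_apply _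
  let e2 : CotT.T1 P B ≃ CotT.T1 P (B ⊗[k] RingHom.ker p.toAlgHom) :=
    { toFun := CotT.T1map P g.toLinearMap
      invFun := CotT.T1map P g.symm.toLinearMap
      left_inv := hT g
      right_inv := fun z => by simpa using hT g.symm z }
  refine ⟨Equiv.trans ?_ (e1.trans e2.symm)⟩
  exact
    { toFun := Quotient.lift (fun ξ => Quot.mk _ ⟨ξ, baseIso _ hx⟩) fun ξ ξ' h =>
        Quot.sound ⟨h.some, base_iso_unique _ _⟩
      invFun := Quot.lift (fun a => ArtFun.DefSch.cl a.1) fun a b h => Quotient.sound ⟨h.choose⟩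
      left_inv := fun q => by induction q using Quotient.inductionOn with | h ξ => rfl
      right_inv := fun q => by
        induction q using Quot.ind with | _ a => ?_
        exact Quot.sound ⟨ArtFun.DefSch.Iso.refl _, base_iso_unique _ _⟩ }

end DefAff

end
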