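import Groth.Agent.DefAff.AlgDef
import Mathlib.RingTheory.Flat.Basic

/-!
# A criterion for a lift to be flat
-/

noncomputable section

universe u

open CategoryTheory TensorProduct IsLocalRing

namespace DefAff

variable {k : Type u} [Field k] {B : Type u} [CommRing B] [Algebra k B]
variable {A A' : ArtFun.Art k k} {p : A' ⟶ A}

variable {T : Type u} [CommRing T] [Algebra A' T]

/-- If `T` reduces to the deformation `R` and `B ⊗ J → T` is injective, then `T` is free over `A'`. -/
theorem free_of_inj (R : AlgDef B A) (q : T →+* R) (hqs : Function.Surjective q)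
    (hqa : ∀ a, q (algebraMap A' T a) = algebraMap A R (p.toAlgHom a))
    (hkp : RingHom.ker (R.proj.comp q) ≤ (maximalIdeal A').map (algebraMap A' T))
    (hinj : ∀ (ι : Type u) (s : Finset ι) (y : ι → T) (j : ι → RingHom.ker p.toAlgHom),
      ∑ i ∈ s, algebraMap A' T (j i) * y i = 0 → ∑ i ∈ s, R.proj (q (y i)) ⊗ₜ[k] j i = 0) :
    Module.Free A' T := by
  classical
  let e := Module.Basis.ofVectorSpace k B
  choose v hv using fun i => R.proj_surjective.comp hqs (e i)
  have hpa : ∀ a, R.proj (q (algebraMap A' T a)) = algebraMap k B (A'.res a) := fun a => by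
    rw [hqa, R.proj_algebraMap, ArtFun.Art.res_app]
  have hli : LinearIndependent A' v := by
    rw [linearIndependent_iff]
    intro c hc
    have hR : LinearIndependent A (fun i => q (v i)) :=
      R.linearIndependent _ (by rw [show R.proj ∘ (fun i => q (v i)) = e from funext hv]; exact e.linearIndependent)
    have hc' : Finsupp.linearCombination A (fun i => q (v i)) (c.mapRange p.toAlgHom (map_zero _)) = 0 := by
      rw [Finsupp.linearCombination_apply, Finsupp.sum_mapRange_index (by intro i; exact zero_smul A (q (v i))),
        ← map_zero q, ← hc, Finsupp.linearCombination_apply, map_finsuppSum]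
      exact Finsupp.sum_congr fun i _ => by simp only [Algebra.smul_def, map_mul, hqa]
    have hJ : ∀ i, c i ∈ RingHom.ker p.toAlgHom := fun i => by
      simpa using DFunLike.congr_fun (linearIndependent_iff.1 hR _ hc') i
    let c' : _ → RingHom.ker p.toAlgHom := fun i => ⟨c i, hJ i⟩
    have hz : ∑ i ∈ c.support, e i ⊗ₜ[k] c' i = 0 := by
      rw [← hinj _ c.support v c' ?_]
      · exact Finset.sum_congr rfl fun i _ => by rw [← hv i]; rfl
      · rw [← hc, Finsupp.linearCombination_apply]
        exact Finset.sum_congr rfl fun i _ => (Algebra.smul_def _ _).symm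
    refine Finsupp.ext fun i => ?_
    by_contra h0
    have h := congrArg (fun z => TensorProduct.equivFinsuppOfBasisLeft e z i) hz
    simp only [map_sum, map_zero, Finsupp.finsetSum_apply, TensorProduct.equivFinsuppOfBasisLeft_apply_tmul,
      Module.Basis.repr_self, Finsupp.mapRange_single, one_smul, Finsupp.zero_apply] at h
    rw [Finset.sum_eq_single i (fun j _ hj => Finsupp.single_eq_of_ne hj.symm)
      (fun hni => absurd (Finsupp.mem_support_iff.2 h0) hni), Finsupp.single_eq_same] at h
    exact h0 (congrArg Subtype.val h)
  have hsp : ⊤ ≤ Submodule.span A' (Set.range v) := by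
    refine (Groth.Agent.FlatBasics.eq_top_of_sup_smul_top_of_isNilpotent (isNilpotent_maximalIdeal A') ?_).ge
    refine eq_top_iff.2 fun y _ => ?_
    let w := Finsupp.linearCombination A' v ((e.repr (R.proj (q y))).mapRange (algebraMap k A') (map_zero _))
    rw [show y = w + (y - w) from (add_sub_cancel _ _).symm]
    refine Submodule.add_mem_sup (Finsupp.mem_span_range_iff_exists_finsupp.2 ⟨_, rfl⟩) ?_
    rw [Ideal.smul_top_eq_map]
    refine hkp (?_ : R.proj.comp q _ = 0)
    simp only [w]
    rw [map_sub, sub_eq_zero, Finsupp.linearCombination_apply,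
      Finsupp.sum_mapRange_index (by intro i; exact zero_smul A' (v i)), map_finsuppSum]
    conv_lhs => rw [RingHom.comp_apply, ← e.linearCombination_repr (R.proj (q y)), Finsupp.linearCombination_apply]
    refine Finsupp.sum_congr fun i _ => ?_
    rw [Algebra.smul_def, Algebra.smul_def, map_mul (R.proj.comp q), RingHom.comp_apply, RingHom.comp_apply, hpa,
      ← hv i, AlgHom.commutes, Algebra.algebraMap_self, RingHom.id_apply]
    rfl
  exact Module.Free.of_basis (.mk hli hsp)

end DefAff

end
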