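import Groth.Agent.DefAff.Tangent
import Groth.Agent.ObsBound.Hull
import Groth.Agent.ArtHull.Versal

/-!
# The hull of the deformations of an affine scheme: tangent dimension and smoothness
-/

noncomputable section

universe u v

open CategoryTheory CategoryTheory.Limits AlgebraicGeometry IsLocalRing TensorProduct
open Groth.Agent Groth.Agent.FSAdic

namespace DefAff

variable {k : Type u} [Field k]

section Hom

variable {R : ArtFun.CRing k k} {e : ℕ} {ψ : MvPowerSeries (Fin e) k →ₐ[k] R.carrier}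
variable (hψ : Function.Surjective ψ)
include hψ

lemma res_aug {a : MvPowerSeries (Fin e) k} (ha : a ∈ augIdeal k e) : R.res (ψ a) = 0 := by
  have hmax : (RingHom.ker (R.res.comp ψ).toRingHom).IsMaximal :=
    RingHom.ker_isMaximal_of_surjective (R.res.comp ψ).toRingHom (R.res_surjective.comp hψ)
  have h := IsLocalRing.eq_maximalIdeal hmax
  rw [← MvPSLib.maximalIdeal_eq, ← h] at ha
  exact RingHom.mem_ker.1 ha

lemma apply_aug_mem {A : ArtFun.Art k k} (φ : ArtFun.HomSet R.carrier R.res A) {a : MvPowerSeries (Fin e) k}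
    (ha : a ∈ augIdeal k e) : φ.1 (ψ a) ∈ maximalIdeal A := by
  rw [ArtFun.Art.mem_maximalIdeal_iff]
  exact (AlgHom.congr_fun φ.2 (ψ a)).trans (res_aug hψ ha)

lemma apply_aug_pow {A : ArtFun.Art k k} {N : ℕ} (hN : maximalIdeal A ^ N = ⊥)
    (φ : ArtFun.HomSet R.carrier R.res A) {a : MvPowerSeries (Fin e) k}
    (ha : a ∈ augIdeal k e ^ N) : φ.1 (ψ a) = 0 := by
  have h : (augIdeal k e).map (φ.1.comp ψ).toRingHom ≤ maximalIdeal A :=
    Ideal.map_le_iff_le_comap.2 fun x hx => apply_aug_mem hψ φ hx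
  have h2 := Ideal.pow_right_mono h N (Ideal.map_pow (φ.1.comp ψ).toRingHom _ N ▸ Ideal.mem_map_of_mem _ ha)
  rwa [hN, Ideal.mem_bot] at h2

/-- Homomorphisms are determined by the images of the variables. -/
lemma homSet_ext {A : ArtFun.Art k k} {φ φ' : ArtFun.HomSet R.carrier R.res A}
    (h : ∀ i, φ.1 (ψ (MvPowerSeries.X i)) = φ'.1 (ψ (MvPowerSeries.X i))) : φ = φ' := by
  obtain ⟨N, hN⟩ := isNilpotent_maximalIdeal A
  refine Subtype.ext (AlgHom.ext fun r => ?_)
  obtain ⟨a, rfl⟩ := hψ r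
  exact AlgHom.congr_fun (algHom_ext_of_vanish (f := φ.1.comp ψ) (g := φ'.1.comp ψ) N
    (fun x hx => apply_aug_pow hψ hN φ hx) (fun x hx => apply_aug_pow hψ hN φ' hx) h) a

/-- An element of `HomSet R A` from values killed by the kernel of `ψ`. -/
lemma exists_homSet {A : ArtFun.Art k k} (z : Fin e → A) (hz : ∀ i, z i ∈ maximalIdeal A) (N : ℕ)
    (hN : Ideal.span (Set.range z) ^ N = ⊥) (hker : ∀ a, ψ a = 0 → evalNilp (A := k) z N hN a = 0) :
    ∃ φ : ArtFun.HomSet R.carrier R.res A, ∀ i, φ.1 (ψ (MvPowerSeries.X i)) = z i := by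
  let χ : MvPowerSeries (Fin e) k →ₐ[k] A := evalNilp z N hN
  let E := Ideal.quotientKerAlgEquivOfSurjective hψ
  let φ : R.carrier →ₐ[k] A := (Ideal.Quotient.liftₐ _ χ fun a ha => hker a (RingHom.mem_ker.1 ha)).comp E.symm.toAlgHom
  have hφ : ∀ a, φ (ψ a) = χ a := fun a => by
    refine (AlgHom.comp_apply _ _ _).trans ?_
    change Ideal.Quotient.liftₐ (RingHom.ker ψ) χ (fun a ha => hker a (RingHom.mem_ker.1 ha)) (E.symm (ψ a)) = χ a
    rw [show E.symm (ψ a) = Ideal.Quotient.mk _ a from E.symm_apply_eq.2 rfl]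
    rfl
  refine ⟨⟨φ, AlgHom.ext fun r => ?_⟩, fun i => (hφ _).trans (evalNilp_X z N hN i)⟩
  obtain ⟨a, rfl⟩ := hψ r
  refine (congrArg A.res (hφ a)).trans ?_
  refine AlgHom.congr_fun (algHom_ext_of_vanish (f := A.res.comp χ) (g := R.res.comp ψ) 1 ?_ ?_ fun i => ?_) a
  · intro x hx
    rw [pow_one] at hx
    rw [AlgHom.comp_apply, ← ArtFun.Art.mem_maximalIdeal_iff]
    exact (Ideal.span_le.2 (Set.range_subset_iff.2 hz)) (evalNilp_mem z N hN hx)
  · intro x hx
    rw [pow_one] at hx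
    exact res_aug hψ hx
  · rw [AlgHom.comp_apply, AlgHom.comp_apply, res_aug hψ (X_mem_augIdeal i), show χ (MvPowerSeries.X i) = z i from
      evalNilp_X z N hN i]
    exact res_eq_zero (hz i)

end Hom

section Sq

variable {M : Type u} [AddCommGroup M] [Module k M] [Module kᵐᵒᵖ M] [IsCentralScalar k M]

lemma span_inr_sq {e : ℕ} (f : Fin e → M) :
    Ideal.span (Set.range fun i => (TrivSqZeroExt.inr (f i) : TrivSqZeroExt k M)) ^ 2 = ⊥ := by
  rw [pow_two, Ideal.span_mul_span', eq_bot_iff, Ideal.span_le]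
  rintro _ ⟨_, ⟨i, rfl⟩, _, ⟨j, rfl⟩, rfl⟩
  exact TrivSqZeroExt.inr_mul_inr _ (f i) (f j)

end Sq

section Tangent

variable {R : ArtFun.CRing k k} {e : ℕ} {ψ : MvPowerSeries (Fin e) k →ₐ[k] R.carrier}
variable (hψ : Function.Surjective ψ) (hker : RingHom.ker ψ.toRingHom ≤ maximalIdeal _ ^ 2)
include hψ hker

omit hψ in
lemma evalNilp_ker {E : Type u} [CommRing E] [Algebra k E] (z : Fin e → E)
    (hN : Ideal.span (Set.range z) ^ 2 = ⊥) {a : MvPowerSeries (Fin e) k} (ha : ψ a = 0) :
    evalNilp (A := k) z 2 hN a = 0 := by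
  have h := hker (RingHom.mem_ker.2 ha)
  rw [MvPSLib.maximalIdeal_eq] at h
  have h1 : (augIdeal k e).map (evalNilp (A := k) z 2 hN).toRingHom ≤ Ideal.span (Set.range z) :=
    Ideal.map_le_iff_le_comap.2 fun x hx => evalNilp_mem z 2 hN hx
  have h2 := Ideal.pow_right_mono h1 2
    (Ideal.map_pow (evalNilp (A := k) z 2 hN).toRingHom _ 2 ▸ Ideal.mem_map_of_mem _ h)
  rwa [hN, Ideal.mem_bot] at h2

lemma exists_toDual (f : Fin e → k) : ∃ φ : ArtFun.HomSet R.carrier R.res (ArtFun.Art.dual k k),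
    ∀ i, (φ.1 (ψ (MvPowerSeries.X i)) : DualNumber k) = TrivSqZeroExt.inr (f i) :=
  exists_homSet hψ _ (fun i => (ArtFun.Art.mem_maximalIdeal_iff _ _).2 (TrivSqZeroExt.fst_inr k (f i) :)) 2
    (span_inr_sq f) fun _ ha => evalNilp_ker hker _ _ ha

lemma exists_toDual2 (f g : Fin e → k) : ∃ φ : ArtFun.HomSet R.carrier R.res (ArtFun.Art.dual2 k k),
    ∀ i, (φ.1 (ψ (MvPowerSeries.X i)) : TrivSqZeroExt k (k × k)) = TrivSqZeroExt.inr (f i, g i) :=
  exists_homSet hψ _ (fun i => (ArtFun.Art.mem_maximalIdeal_iff _ _).2 (TrivSqZeroExt.fst_inr k (f i, g i) :)) 2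
    (span_inr_sq fun i => (f i, g i)) fun _ ha => evalNilp_ker hker _ _ ha

/-- The tangent space of a hull is `k ^ e`. -/
theorem finrank_eq {F : ArtFun.Art k k ⥤ Type v} {T : Type u} [AddCommGroup T] [Module k T]
    (t : F.obj (ArtFun.Art.dual k k) → T) (ht : Function.Bijective t)
    (hscale : ∀ (c : k) y, t (F.map (ArtFun.Art.scale c) y) = c • t y)
    (hplus : ∀ z, t (F.map ArtFun.Art.plus z) = t (F.map ArtFun.Art.pr₁ z) + t (F.map ArtFun.Art.pr₂ z))
    (ξ : ArtFun.Family R.carrier R.res F) (hξ : Function.Bijective (ξ.app (ArtFun.Art.dual k k))) :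
    Module.finrank k T = e := by
  choose Φ hΦ using exists_toDual hψ hker
  choose Φ2 hΦ2 using exists_toDual2 hψ hker
  let L : (Fin e → k) →ₗ[k] T :=
    { toFun := fun f => t (ξ.app _ (Φ f))
      map_add' := fun f g => by
        have h1 : ArtFun.HomSet.map ArtFun.Art.pr₁ (Φ2 f g) = Φ f := homSet_ext hψ fun i => by
          refine Eq.trans ?_ (hΦ f i).symm
          refine (congrArg (ArtFun.Art.pr₁ (Λ := k) (k := k)).toAlgHom (hΦ2 f g i)).trans ?_
          exact TrivSqZeroExt.ext rfl rfl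
        have h2 : ArtFun.HomSet.map ArtFun.Art.pr₂ (Φ2 f g) = Φ g := homSet_ext hψ fun i => by
          refine Eq.trans ?_ (hΦ g i).symm
          refine (congrArg (ArtFun.Art.pr₂ (Λ := k) (k := k)).toAlgHom (hΦ2 f g i)).trans ?_
          exact TrivSqZeroExt.ext rfl rfl
        have h3 : ArtFun.HomSet.map ArtFun.Art.plus (Φ2 f g) = Φ (f + g) := homSet_ext hψ fun i => by
          refine Eq.trans ?_ (hΦ (f + g) i).symm
          refine (congrArg (ArtFun.Art.plus (Λ := k) (k := k)).toAlgHom (hΦ2 f g i)).trans ?_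
          exact TrivSqZeroExt.ext rfl rfl
        rw [← h1, ← h2, ← h3, ξ.natural, ξ.natural, ξ.natural, hplus]
      map_smul' := fun c f => by
        have h1 : ArtFun.HomSet.map (ArtFun.Art.scale c) (Φ f) = Φ (c • f) := homSet_ext hψ fun i => by
          refine Eq.trans ?_ (hΦ (c • f) i).symm
          refine (congrArg (ArtFun.Art.scale (Λ := k) c).toAlgHom (hΦ f i)).trans ?_
          exact TrivSqZeroExt.ext rfl rfl
        rw [← h1, ξ.natural, hscale, RingHom.id_apply] }
  have hbij : Function.Bijective L := by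
    refine (ht.comp hξ).comp ⟨fun f g h => funext fun i => ?_, fun φ => ?_⟩
    · exact TrivSqZeroExt.inr_injective ((hΦ f i).symm.trans
        ((congrArg (fun φ : ArtFun.HomSet R.carrier R.res (ArtFun.Art.dual k k) => φ.1 (ψ (MvPowerSeries.X i))) h).trans
          (hΦ g i)))
    · refine ⟨fun i => TrivSqZeroExt.snd (φ.1 (ψ (MvPowerSeries.X i)) : DualNumber k), homSet_ext hψ fun i => ?_⟩
      refine (hΦ _ i).trans (TrivSqZeroExt.ext ?_ rfl)
      refine (TrivSqZeroExt.fst_inr k _).trans ?_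
      exact (res_eq_zero (apply_aug_mem hψ φ (X_mem_augIdeal i)) :).symm
  rw [← (LinearEquiv.ofBijective L hbij).finrank_eq, Module.finrank_fin_fun]

end Tangent

section Smooth

variable {F : ArtFun.Art k k ⥤ Type v}

/-- A smooth functor has the zero obstruction theory. -/
def smoothObs (hF : ArtFun.IsSmoothFunctor F) : ArtFun.ObsTheory F PUnit.{u + 1} where
  obs _ _ _ := 0
  obs_eq_zero_iff p hp u := iff_of_true rfl (hF p hp.1 u)
  obs_quot _ _ _ _ _ _ _ := (map_zero _).symm

/-- A functor with a hull of full dimension is smooth. -/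
theorem isSmoothFunctor_of_dim (h0 : ArtFun.H0 F) (H : ArtFun.Hull F) {e : ℕ}
    (ψ : MvPowerSeries (Fin e) k →ₐ[k] H.ring.carrier) (hψ : Function.Surjective ψ)
    (hd : ringKrullDim H.ring.carrier = e) : ArtFun.IsSmoothFunctor F := by
  have hinj := (MvPSLib.bijective_of_dim ψ hψ hd).1
  intro B A μ hμ y
  obtain ⟨φ, rfl⟩ := ArtHull.versal_surjective H.miniversal.1 h0 A y
  choose z hz using fun i => hμ (φ.1 (ψ (MvPowerSeries.X i)))
  have hzm : ∀ i, z i ∈ maximalIdeal B := fun i => by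
    rw [ArtFun.Art.mem_maximalIdeal_iff, ← ArtFun.Art.res_app μ]
    exact (congrArg A.res (hz i)).trans (res_eq_zero (apply_aug_mem hψ φ (X_mem_augIdeal i)))
  obtain ⟨N, hN⟩ := isNilpotent_maximalIdeal B
  have hspan : Ideal.span (Set.range z) ^ N = ⊥ :=
    le_bot_iff.1 ((Ideal.pow_right_mono (Ideal.span_le.2 (Set.range_subset_iff.2 hzm)) N).trans hN.le)
  obtain ⟨φ', hφ'⟩ := exists_homSet hψ z hzm N hspan fun a ha => by
    rw [show a = 0 from hinj (ha.trans (map_zero ψ).symm), map_zero]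
  refine ⟨H.family.app B φ', ?_⟩
  rw [← H.family.natural, homSet_ext hψ (φ := ArtFun.HomSet.map μ φ') (φ' := φ) fun i => ?_]
  exact (congrArg μ.toAlgHom (hφ' i)).trans (hz i)

end Smooth

section Affine

variable {B : Type u} [CommRing B] [Algebra k B]

local notation "Fd" => ArtFun.defFunctor (Λ := k) (Spec (CommRingCat.of B)) (Spec.map (CommRingCat.ofHom (algebraMap k B)))

variable (B) in
lemma h0_defFunctor : ArtFun.H0 (Fd) := by
  refine ⟨⟨(ArtFun.DefSch.self _ _ (flat_structure B)).cl⟩, ⟨fun a b => ?_⟩⟩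
  induction a using Quotient.inductionOn with | h ξ => ?_
  induction b using Quotient.inductionOn with | h η => ?_
  exact Quotient.sound ⟨(baseIso ξ (flat_structure B)).trans (baseIso η (flat_structure B)).symm⟩

/-- The embedding dimension of the hull is `dim T¹`, and it equals the dimension iff the functor is smooth. -/
theorem hull_dim {ι σ : Type u} (P : Algebra.Presentation k B ι σ) (H : ArtFun.Hull (Fd)) :
    Module.finrank k (CotT.T1 P B) =
        Module.finrank (ResidueField H.ring.carrier) (CotangentSpace H.ring.carrier) ∧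
      (ringKrullDim H.ring.carrier ≤
        (Module.finrank (ResidueField H.ring.carrier) (CotangentSpace H.ring.carrier) : WithBot ℕ∞)) ∧
      (ringKrullDim H.ring.carrier =
          (Module.finrank (ResidueField H.ring.carrier) (CotangentSpace H.ring.carrier) : WithBot ℕ∞) ↔
        ArtFun.IsSmoothFunctor (Fd)) := by
  obtain ⟨ψ, hψ, hker⟩ := ObsBound.exists_presentation H.ring
  have hle : ringKrullDim H.ring.carrier ≤
      (Module.finrank (ResidueField H.ring.carrier) (CotangentSpace H.ring.carrier) : WithBot ℕ∞) := by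
    rw [← MvPSLib.ringKrullDim_eq k]
    exact ringKrullDim_le_of_surjective ψ.toRingHom hψ
  refine ⟨finrank_eq hψ hker (tangentMap P) tangentMap_bijective tangentMap_scale tangentMap_plus H.family
    H.miniversal.2, hle, fun h => isSmoothFunctor_of_dim (h0_defFunctor B) H ψ hψ h, fun h => le_antisymm hle ?_⟩
  refine (ObsBound.hull_bounds PUnit.{u + 1} (smoothObs h) H).2.1.trans_eq ?_
  rw [Module.finrank_zero_of_subsingleton, Nat.cast_zero, add_zero]

end Affine

end DefAff

end
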