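import Groth.Agent.DefAff.AlgDef
import Groth.Agent.CotTLib.Basic

/-!
# Lifts of a presentation to a deformation

For a presentation `P` of `B` over `k` and a deformation `R` over `A`, a lift is an `A`-algebra map
`A[x] → R` over `k[x] → B`. It is surjective and, by flatness, its kernel reduces onto the kernel of `k[x] → B`,
with `ker ∩ m A[x] = m ker`.
-/

noncomputable section

universe u

open CategoryTheory TensorProduct IsLocalRing

namespace DefAff

variable {k : Type u} [Field k] {B : Type u} [CommRing B] [Algebra k B]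
variable {ι σ : Type u} (P : Algebra.Presentation k B ι σ)
variable {A A' : ArtFun.Art k k}

/-- Coefficientwise reduction `A[x] → k[x]`. -/
def red : MvPolynomial ι A →+* P.toExtension.Ring :=
  (MvPolynomial.map (A.res : A →+* k) : MvPolynomial ι A →+* MvPolynomial ι k)

lemma red_C (a : A) : red P (MvPolynomial.C a) = algebraMap k P.toExtension.Ring (A.res a) :=
  MvPolynomial.map_C _ a

lemma red_X (i : ι) : red P (MvPolynomial.X (R := A) i) = (MvPolynomial.X i : MvPolynomial ι k) :=
  MvPolynomial.map_X _ i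

lemma red_surjective : Function.Surjective (red P (A := A)) :=
  MvPolynomial.map_surjective _ A.res_surjective

lemma mem_of_red_eq_zero {F : MvPolynomial ι A} (h : red P F = 0) :
    F ∈ (maximalIdeal A).map MvPolynomial.C := by
  refine MvPolynomial.mem_map_C_iff.2 fun d => ?_
  rw [ArtFun.Art.mem_maximalIdeal_iff]
  have := congrArg (fun G : MvPolynomial ι k => MvPolynomial.coeff d G)
    (show (MvPolynomial.map (A.res : A →+* k) F : MvPolynomial ι k) = 0 from h)
  simpa [MvPolynomial.coeff_map] using this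

/-- A lift of `P` to `R`. -/
def IsLift (R : AlgDef B A) (α : MvPolynomial ι A →ₐ[A] R) : Prop :=
  ∀ F, R.proj (α F) = algebraMap P.toExtension.Ring B (red P F)

variable {P}

lemma isLift_of_X {R : AlgDef B A} {α : MvPolynomial ι A →ₐ[A] R}
    (h : ∀ i, R.proj (α (MvPolynomial.X i)) = P.val i) : IsLift P R α := by
  intro F
  refine RingHom.congr_fun (MvPolynomial.ringHom_ext (f := R.proj.comp α.toRingHom)
    (g := (algebraMap P.toExtension.Ring B).comp (red P)) (fun a => ?_) fun i => ?_) F
  · change R.proj (α (MvPolynomial.C a)) = algebraMap P.toExtension.Ring B (red P (MvPolynomial.C a))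
    rw [red_C, ← MvPolynomial.algebraMap_eq, α.commutes, R.proj_algebraMap,
      ← IsScalarTower.algebraMap_apply]
  · change R.proj (α (MvPolynomial.X i)) = algebraMap P.toExtension.Ring B (red P (MvPolynomial.X i))
    rw [red_X, h]
    exact ((P.algebraMap_apply _).trans (MvPolynomial.aeval_X _ i)).symm

lemma exists_isLift (R : AlgDef B A) : ∃ α, IsLift P R α := by
  choose x hx using fun i => R.proj_surjective (P.val i)
  exact ⟨MvPolynomial.aeval x, isLift_of_X fun i => by rw [MvPolynomial.aeval_X, hx]⟩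

namespace IsLift

variable {R : AlgDef B A} {α : MvPolynomial ι A →ₐ[A] R} (hα : IsLift P R α)
include hα

theorem surjective : Function.Surjective α := by
  have h : LinearMap.range α.toLinearMap ⊔ maximalIdeal A • (⊤ : Submodule A R) = ⊤ := by
    refine eq_top_iff.2 fun y _ => ?_
    obtain ⟨r, hr⟩ := CotTLib.surjective_algebraMap P (R.proj y)
    obtain ⟨F, rfl⟩ := red_surjective P (A := A) r
    rw [show y = α F + (y - α F) by ring]
    refine Submodule.add_mem_sup ⟨F, rfl⟩ ?_
    rw [Ideal.smul_top_eq_map]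
    exact R.ker_proj_le (by rw [RingHom.mem_ker, map_sub, hα, hr, sub_self])
  exact LinearMap.range_eq_top.1
    (Groth.Agent.FlatBasics.eq_top_of_sup_smul_top_of_isNilpotent (isNilpotent_maximalIdeal A) h)

lemma exists_map_eq (I : Ideal A) {x : R} (hx : x ∈ I.map (algebraMap A R)) :
    ∃ H ∈ I.map MvPolynomial.C, α H = x := by
  have h : algebraMap A R = α.toRingHom.comp MvPolynomial.C := α.comp_algebraMap.symm
  rw [h, ← Ideal.map_map] at hx
  exact (Ideal.mem_map_iff_of_surjective _ hα.surjective).1 hx

/-- Every element of the kernel of `k[x] → B` lifts to the kernel of `α`. -/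
theorem exists_ker_lift {f : P.toExtension.Ring} (hf : algebraMap P.toExtension.Ring B f = 0) :
    ∃ F, α F = 0 ∧ red P F = f := by
  obtain ⟨F, rfl⟩ := red_surjective P (A := A) f
  obtain ⟨H, hH, hHF⟩ := hα.exists_map_eq (maximalIdeal A) (R.proj_eq_zero_iff.1 ((hα F).trans hf))
  refine ⟨F - H, by rw [map_sub, hHF, sub_self], ?_⟩
  have : (maximalIdeal A).map MvPolynomial.C ≤ RingHom.ker (red P (A := A)) :=
    Ideal.map_le_iff_le_comap.2 fun a ha => by
      rw [Ideal.mem_comap, RingHom.mem_ker, red_C, res_eq_zero ha, map_zero]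
  rw [map_sub, RingHom.mem_ker.1 (this hH), sub_zero]

/-- `ker α ∩ m A[x] = m ker α`. -/
theorem mem_mul_ker {F : MvPolynomial ι A} (h0 : α F = 0) (h : red P F = 0) :
    F ∈ (maximalIdeal A).map MvPolynomial.C * RingHom.ker α := by
  classical
  have hm := mem_of_red_eq_zero P h
  rw [MvPolynomial.mem_map_C_iff] at hm
  let c : F.support → A := fun d => F.coeff d
  let M : F.support → MvPolynomial ι A := fun d => MvPolynomial.monomial (d : ι →₀ ℕ) 1
  have hF : ∑ d, c d • M d = F := by
    conv_rhs => rw [F.as_sum]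
    rw [← Finset.sum_coe_sort F.support]
    exact Finset.sum_congr rfl fun d _ => by
      rw [MvPolynomial.smul_monomial, smul_eq_mul, mul_one]
  have hrel : ∑ d, c d • α (M d) = 0 := by simp_rw [← map_smul, ← map_sum, hF, h0]
  obtain ⟨l, a, y, hy, hca⟩ := Module.Flat.isTrivialRelation_of_sum_smul_eq_zero hrel
  choose Y hY using fun j => hα.surjective (y j)
  have hF' : F = ∑ d, MvPolynomial.C (c d) * (M d - ∑ j, a d j • Y j) := by
    simp_rw [mul_sub, Finset.sum_sub_distrib, Finset.mul_sum]
    rw [Finset.sum_comm (f := fun d j => MvPolynomial.C (c d) * a d j • Y j)]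
    simp_rw [MvPolynomial.C_mul', smul_smul, ← Finset.sum_smul]
    rw [hF, Finset.sum_eq_zero fun j _ => ?_, sub_zero]
    rw [hca j, zero_smul]
  rw [hF']
  refine Ideal.sum_mem _ fun d _ => Ideal.mul_mem_mul (Ideal.mem_map_of_mem _ (hm _)) ?_
  rw [RingHom.mem_ker, map_sub, map_sum]
  simp_rw [map_smul, hY]
  exact sub_eq_zero.2 (hy d)

end IsLift

variable {p : A' ⟶ A} (hp : maximalIdeal A' * RingHom.ker p.toAlgHom = ⊥)
include hp

/-- If `K` is sent into `J R'`, then `m K` is sent to zero. -/
lemma map_eq_zero_of_mem_mul {R' : AlgDef B A'} (α : MvPolynomial ι A' →ₐ[A'] R')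
    {K : Ideal (MvPolynomial ι A')}
    (hK : ∀ G ∈ K, α G ∈ (RingHom.ker p.toAlgHom).map (algebraMap A' R')) {F : MvPolynomial ι A'}
    (hF : F ∈ (maximalIdeal A').map MvPolynomial.C * K) : α F = 0 := by
  refine Submodule.mul_induction_on hF (fun m hm G hG => ?_) fun x y hx hy => by rw [map_add, hx, hy, add_zero]
  rw [map_mul]
  refine mul_eq_zero hp ?_ (hK G hG)
  have h : algebraMap A' R' = α.toRingHom.comp MvPolynomial.C := α.comp_algebraMap.symm
  rw [h, ← Ideal.map_map]
  exact Ideal.mem_map_of_mem _ hm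

variable (P) in
/-- An element of `J A'[x]` with the given value in every deformation. -/
theorem exists_univ (z : B ⊗[k] RingHom.ker p.toAlgHom) :
    ∃ H, H ∈ (RingHom.ker p.toAlgHom).map MvPolynomial.C ∧ red P H = 0 ∧
      ∀ (R' : AlgDef B A') (α : MvPolynomial ι A' →ₐ[A'] R'), IsLift P R' α → α H = theta hp R' z := by
  induction z using TensorProduct.induction_on with
  | zero => exact ⟨0, zero_mem _, map_zero _, fun R' α _ => by rw [map_zero, map_zero]⟩
  | add a b ha hb =>
    obtain ⟨H, h1, h2, h3⟩ := ha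
    obtain ⟨G, g1, g2, g3⟩ := hb
    exact ⟨H + G, add_mem h1 g1, by rw [map_add, h2, g2, add_zero],
      fun R' α hα => by rw [map_add, map_add, h3 R' α hα, g3 R' α hα]⟩
  | tmul b j =>
    obtain ⟨r, rfl⟩ := CotTLib.surjective_algebraMap P b
    obtain ⟨F, rfl⟩ := red_surjective P (A := A') r
    refine ⟨MvPolynomial.C (j : A') * F, Ideal.mul_mem_right _ _ (Ideal.mem_map_of_mem _ j.2), ?_, ?_⟩
    · rw [map_mul, red_C, res_eq_zero (ker_le_maximalIdeal p j.2), map_zero, zero_mul]
    · intro R' α hα
      rw [← hα, theta_tmul, map_mul, ← MvPolynomial.algebraMap_eq, α.commutes]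

end DefAff

end
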