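import Groth.Agent.DefAff.Deform

/-!
# Functoriality of the class of a lift

For `g : A' ⟶ A''` over `A`, pushing a lift of `R` forward along `g` pushes its class forward along `J → J'`.
-/

noncomputable section

universe u

open CategoryTheory CategoryTheory.Limits AlgebraicGeometry IsLocalRing TensorProduct

namespace DefAff

variable {k : Type u} [Field k] {B : Type u} [CommRing B] [Algebra k B]
variable {A A' A'' : ArtFun.Art k k}

/-- The restriction of `g` to the kernels over `A`. -/
def kerMap (p : A' ⟶ A) (p' : A'' ⟶ A) (g : A' ⟶ A'') (w : g ≫ p' = p) :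
    RingHom.ker p.toAlgHom →ₗ[k] RingHom.ker p'.toAlgHom where
  toFun j := ⟨g.toAlgHom j, by
    rw [RingHom.mem_ker]
    change (g ≫ p').toAlgHom (j : A') = 0
    rw [w]
    exact RingHom.mem_ker.1 j.2⟩
  map_add' x y := Subtype.ext (map_add g.toAlgHom (x : A') (y : A'))
  map_smul' c x := Subtype.ext (map_smul g.toAlgHom c (x : A'))

variable (B) in
/-- `B ⊗ J → B ⊗ J'`. -/
def coefMap {p : A' ⟶ A} {p' : A'' ⟶ A} {g : A' ⟶ A''} (w : g ≫ p' = p) :
    B ⊗[k] RingHom.ker p.toAlgHom →ₗ[B] B ⊗[k] RingHom.ker p'.toAlgHom :=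
  TensorProduct.AlgebraTensorModule.map LinearMap.id (kerMap p p' g w)

/-- A map of deformations over `g`. -/
structure Over (g : A' ⟶ A'') (R' : AlgDef B A') (R'' : AlgDef B A'') : Type u where
  /-- The underlying ring map. -/
  G : R' →+* R''
  G_algebraMap : ∀ a, G (algebraMap A' R' a) = algebraMap A'' R'' (g.toAlgHom a)
  proj_G : ∀ x, R''.proj (G x) = R'.proj x

variable {p : A' ⟶ A} {p' : A'' ⟶ A} {g : A' ⟶ A''} {w : g ≫ p' = p}

lemma Over.G_theta {R' : AlgDef B A'} {R'' : AlgDef B A''} (o : Over g R' R'')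
    (hp : maximalIdeal A' * RingHom.ker p.toAlgHom = ⊥) (hp' : maximalIdeal A'' * RingHom.ker p'.toAlgHom = ⊥)
    (z : B ⊗[k] RingHom.ker p.toAlgHom) : o.G (theta hp R' z) = theta hp' R'' (coefMap B w z) := by
  induction z using TensorProduct.induction_on with
  | zero => simp
  | tmul b j =>
    obtain ⟨x, rfl⟩ := R'.proj_surjective b
    rw [theta_tmul, map_mul, o.G_algebraMap,
      show coefMap B w (R'.proj x ⊗ₜ j) = R''.proj (o.G x) ⊗ₜ[k] kerMap p p' g w j by
        rw [o.proj_G]; rfl,
      theta_tmul]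
    rfl
  | add a b ha hb => rw [map_add, map_add, map_add, map_add, ha, hb]

variable {ι σ : Type u} {P : Algebra.Presentation k B ι σ}

lemma red_map (F : MvPolynomial ι A') : red P (MvPolynomial.map g.toAlgHom.toRingHom F) = red P F := by
  refine RingHom.congr_fun (MvPolynomial.ringHom_ext (f := (red P).comp (MvPolynomial.map g.toAlgHom.toRingHom))
    (g := red P) (fun a => ?_) fun i => ?_) F
  · simp only [RingHom.comp_apply, MvPolynomial.map_C, red_C]
    exact congrArg _ (ArtFun.Art.res_app g a)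
  · simp only [RingHom.comp_apply, MvPolynomial.map_X, red_X]

lemma over_comp {R' : AlgDef B A'} {R'' : AlgDef B A''} (o : Over g R' R'')
    (α : MvPolynomial ι A' →ₐ[A'] R') (β : MvPolynomial ι A'' →ₐ[A''] R'')
    (hβ : ∀ i, β (MvPolynomial.X i) = o.G (α (MvPolynomial.X i))) (F : MvPolynomial ι A') :
    o.G (α F) = β (MvPolynomial.map g.toAlgHom.toRingHom F) := by
  refine RingHom.congr_fun (MvPolynomial.ringHom_ext (f := o.G.comp α.toRingHom)
    (g := β.toRingHom.comp (MvPolynomial.map g.toAlgHom.toRingHom)) (fun a => ?_) fun i => ?_) F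
  · change o.G (α (MvPolynomial.C a)) = β (MvPolynomial.map g.toAlgHom.toRingHom (MvPolynomial.C a))
    rw [MvPolynomial.map_C, ← MvPolynomial.algebraMap_eq, ← MvPolynomial.algebraMap_eq, α.commutes,
      β.commutes, o.G_algebraMap]
    rfl
  · change o.G (α (MvPolynomial.X i)) = β (MvPolynomial.map g.toAlgHom.toRingHom (MvPolynomial.X i))
    rw [MvPolynomial.map_X, hβ]

variable {R : AlgDef B A} {R₀ R' : AlgDef B A'} {R₀' R'' : AlgDef B A''}
variable {r₀ : Red p R₀ R} {r₀' : Red p' R₀' R} {r : Red p R' R} {r' : Red p' R'' R}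

/-- The class of the pushed forward lift. -/
theorem IsClassOf.push (hp : maximalIdeal A' * RingHom.ker p.toAlgHom = ⊥)
    (hp' : maximalIdeal A'' * RingHom.ker p'.toAlgHom = ⊥)
    {α₀ : MvPolynomial ι A' →ₐ[A'] R₀} {α₀' : MvPolynomial ι A'' →ₐ[A''] R₀'} (hα₀' : IsLift P R₀' α₀')
    (o₀ : Over g R₀ R₀') (ho₀ : ∀ i, α₀' (MvPolynomial.X i) = o₀.G (α₀ (MvPolynomial.X i)))
    (hq₀ : ∀ x, r₀'.q (o₀.G x) = r₀.q x) (o : Over g R' R'') (hq : ∀ x, r'.q (o.G x) = r.q x)
    {x : CotT.T1 P (B ⊗[k] RingHom.ker p.toAlgHom)} (hx : IsClassOf hp P r₀ α₀ r x) :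
    IsClassOf hp' P r₀' α₀' r' (CotT.T1map P (coefMap B w) x) := by
  obtain ⟨α, φ, hα, hφ, rfl⟩ := hx
  let β : MvPolynomial ι A'' →ₐ[A''] R'' := MvPolynomial.aeval fun i => o.G (α (MvPolynomial.X i))
  have hβ : ∀ i, β (MvPolynomial.X i) = o.G (α (MvPolynomial.X i)) := fun i => MvPolynomial.aeval_X _ i
  have hc : IsCompat P r₀' α₀' r' β := isCompat_of_X r₀' α₀' r' hα₀' fun i => by
    rw [hβ, hq, hα.q_eq, ho₀, hq₀]
  refine ⟨β, CotT.cocycles1Map P (coefMap B w) φ, hc, fun z => ?_, rfl⟩
  obtain ⟨F, h1, h2, h3⟩ := hφ z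
  refine ⟨MvPolynomial.map g.toAlgHom.toRingHom F, ?_, (red_map F).trans h2, ?_⟩
  · rw [← over_comp o α β hβ, h1, map_zero]
  · rw [← over_comp o₀ α₀ α₀' ho₀]
    refine Eq.trans ?_ (congrArg o₀.G h3)
    exact (o₀.G_theta (w := w) hp hp' _).symm

/-- Base change of affine deformations gives a map over `g`. -/
theorem exists_over_of_iso (e : (R'.toSch.baseChange g).Iso R''.toSch) : Nonempty (Over g R' R'') := by
  obtain ⟨q, hq⟩ := Spec.map_surjective (R := CommRingCat.of R') (S := CommRingCat.of R'')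
    (e.iso.inv ≫ pullback.fst _ _)
  have h1 : CommRingCat.ofHom (algebraMap A' R') ≫ q =
      CommRingCat.ofHom g.toAlgHom.toRingHom ≫ CommRingCat.ofHom (algebraMap A'' R'') := by
    refine Spec.map_injective ?_
    rw [Spec.map_comp, Spec.map_comp, hq, Category.assoc]
    refine (congrArg (e.iso.inv ≫ ·) (pullback.condition (f := R'.toSch.f) (g := ArtFun.Art.specMap g))).trans ?_
    refine (Category.assoc _ _ _).symm.trans ?_
    exact congrArg (· ≫ ArtFun.Art.specMap g) e.symm.hom_f
  have h2 : q ≫ CommRingCat.ofHom R''.proj = CommRingCat.ofHom R'.proj := by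
    refine Spec.map_injective ?_
    rw [Spec.map_comp, hq, ← Category.assoc]
    refine (congrArg (· ≫ pullback.fst _ _) e.symm.i_hom).trans ?_
    exact ArtFun.DefSch.baseChange_i_fst R'.toSch g
  exact ⟨⟨q.hom, fun a => congrArg (fun χ : CommRingCat.of A' ⟶ CommRingCat.of R'' => χ.hom a) h1,
    fun x => congrArg (fun χ : CommRingCat.of R' ⟶ CommRingCat.of B => χ.hom x) h2⟩⟩

section Base

variable (B)

/-- `B` as a deformation over the base field. -/
def baseDef : AlgDef B (ArtFun.Art.base k k) where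
  carrier := B
  algebra := inferInstanceAs (Algebra k B)
  proj := RingHom.id B
  proj_algebraMap _ := rfl
  proj_surjective := Function.surjective_id
  ker_proj_le := fun x hx => by
    rw [show x = 0 from RingHom.mem_ker.1 hx]; exact zero_mem _
  flat := inferInstanceAs (Module.Flat k B)

variable {B}

/-- Every deformation reduces to `B` over `k`. -/
def toBaseRed (R' : AlgDef B A') : Red (ArtFun.Art.toBase A') R' (baseDef B) where
  q := R'.proj
  q_algebraMap := R'.proj_algebraMap
  proj_q _ := rfl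
  q_surjective := R'.proj_surjective
  ker_q_le := R'.ker_proj_le.trans (Ideal.map_mono fun a ha => RingHom.mem_ker.2 (res_eq_zero ha :))

variable (B) in
/-- The trivial deformation. -/
def trivialDef (A : ArtFun.Art k k) : AlgDef B A where
  carrier := A.carrier ⊗[k] B
  algebra := Algebra.TensorProduct.leftAlgebra
  proj := (Algebra.TensorProduct.lift ((Algebra.ofId k B).comp A.res) (AlgHom.id k B)
    fun _ _ => Commute.all _ _).toRingHom
  proj_algebraMap a := by
    change Algebra.TensorProduct.lift _ _ _ (a ⊗ₜ[k] (1 : B)) = _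
    rw [Algebra.TensorProduct.lift_tmul, map_one, mul_one]
    rfl
  proj_surjective b := ⟨1 ⊗ₜ b, by
    change Algebra.TensorProduct.lift _ _ _ ((1 : A) ⊗ₜ[k] b) = _
    rw [Algebra.TensorProduct.lift_tmul, map_one, one_mul]
    rfl⟩
  ker_proj_le := by
    intro x hx
    let π := Algebra.TensorProduct.lift ((Algebra.ofId k B).comp A.res) (AlgHom.id k B) fun _ _ => Commute.all _ _
    suffices h : ∀ x, x - (1 : A) ⊗ₜ[k] π x ∈ (maximalIdeal A).map (algebraMap A (A.carrier ⊗[k] B)) by
      simpa [show π x = 0 from hx] using h x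
    intro x
    induction x using TensorProduct.induction_on with
    | zero => simp
    | tmul a b =>
      have ha : a - algebraMap k A (A.res a) ∈ maximalIdeal A := by
        rw [ArtFun.Art.mem_maximalIdeal_iff, map_sub, AlgHom.commutes, Algebra.algebraMap_self, RingHom.id_apply,
          sub_self]
      have he : a ⊗ₜ[k] b - (1 : A) ⊗ₜ[k] π (a ⊗ₜ b) =
          algebraMap A (A.carrier ⊗[k] B) (a - algebraMap k A (A.res a)) * ((1 : A) ⊗ₜ b) := by
        rw [Algebra.TensorProduct.algebraMap_apply, Algebra.algebraMap_self, RingHom.id_apply,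
          Algebra.TensorProduct.tmul_mul_tmul, mul_one, one_mul, TensorProduct.sub_tmul,
          Algebra.algebraMap_eq_smul_one, TensorProduct.smul_tmul]
        congr 2
        simp [π, Algebra.smul_def]
      rw [he]
      exact Ideal.mul_mem_right _ _ (Ideal.mem_map_of_mem _ ha)
    | add y z hy hz =>
      rw [map_add, TensorProduct.tmul_add, add_sub_add_comm]
      exact add_mem hy hz
  flat := inferInstanceAs (Module.Flat A.carrier (A.carrier ⊗[k] B))

lemma trivialDef_proj_tmul (a : A) (b : B) :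
    (trivialDef B A).proj (a ⊗ₜ[k] b) = algebraMap k B (A.res a) * b :=
  Algebra.TensorProduct.lift_tmul _ _ (fun _ _ => Commute.all _ _) a b

variable (P) in
/-- The canonical lift of a presentation to the trivial deformation. -/
def trivLift (A : ArtFun.Art k k) : MvPolynomial ι A →ₐ[A] trivialDef B A :=
  MvPolynomial.aeval fun i => ((1 : A) ⊗ₜ[k] P.val i : A.carrier ⊗[k] B)

lemma trivLift_X (i : ι) : trivLift P A (MvPolynomial.X i) = ((1 : A) ⊗ₜ[k] P.val i : A.carrier ⊗[k] B) :=
  MvPolynomial.aeval_X _ i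

lemma isLift_trivLift : IsLift P (trivialDef B A) (trivLift P A) := isLift_of_X fun i => by
  rw [trivLift_X]
  refine (trivialDef_proj_tmul (1 : A) (P.val i)).trans ?_
  rw [map_one, map_one, one_mul]

/-- The trivial deformations are compatible. -/
def trivOver (g : A' ⟶ A'') : Over g (trivialDef B A') (trivialDef B A'') where
  G := (Algebra.TensorProduct.map g.toAlgHom (AlgHom.id k B)).toRingHom
  G_algebraMap a := by
    change Algebra.TensorProduct.map g.toAlgHom (AlgHom.id k B) (a ⊗ₜ (1 : B)) = _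
    rw [Algebra.TensorProduct.map_tmul]
    rfl
  proj_G x := by
    change (trivialDef B A'').proj (Algebra.TensorProduct.map g.toAlgHom (AlgHom.id k B) x) = _
    induction x using TensorProduct.induction_on with
    | zero => rw [map_zero]; exact (map_zero _).trans (map_zero _).symm
    | tmul a b =>
      rw [Algebra.TensorProduct.map_tmul]
      refine (trivialDef_proj_tmul _ _).trans (Eq.trans ?_ (trivialDef_proj_tmul a b).symm)
      rw [ArtFun.Art.res_app]
      rfl
    | add y z hy hz => rw [map_add]; exact (map_add _ _ _).trans ((congrArg₂ (· + ·) hy hz).trans (map_add _ _ _).symm)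

lemma trivOver_X (g : A' ⟶ A'') (i : ι) :
    trivLift P A'' (MvPolynomial.X i) = (trivOver g).G (trivLift P A' (MvPolynomial.X i)) := by
  rw [trivLift_X, trivLift_X]
  change ((1 : A'') ⊗ₜ[k] P.val i : A''.carrier ⊗[k] B) =
    Algebra.TensorProduct.map g.toAlgHom (AlgHom.id k B) ((1 : A') ⊗ₜ P.val i)
  rw [Algebra.TensorProduct.map_tmul, map_one]
  rfl

end Base

end DefAff

end
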