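import Groth.Agent.DefAff.Lifts
import Groth.Agent.DefAff.Flat
import Groth.Agent.S0397
import Mathlib.LinearAlgebra.Dual.Lemmas

/-!
# The obstruction to lifting a deformation

For a small surjection `p : A' ⟶ A` with kernel `J` and a deformation `R` over `A`, lifting the relations of a
presentation gives a map on the module of relations with values in `B ⊗ J`; if `T²(B/k, B ⊗ J) = 0` it is a
coboundary and the deformation lifts.
-/

noncomputable section

universe u

open CategoryTheory TensorProduct IsLocalRing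

namespace DefAff

variable {k : Type u} [Field k] {B : Type u} [CommRing B] [Algebra k B]
variable {ι σ : Type u} {P : Algebra.Presentation k B ι σ}
variable {A A' : ArtFun.Art k k}

section Rel

variable {R : AlgDef B A} {α : MvPolynomial ι A →ₐ[A] R}

/-- The kernel of a lift is generated by lifts of the relations. -/
theorem IsLift.ker_eq_span (hα : IsLift P R α) {F : σ → MvPolynomial ι A} (hF : ∀ s, α (F s) = 0)
    (hred : ∀ s, red P (F s) = CotT.rel P s) : RingHom.ker α = Ideal.span (Set.range F) := by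
  refine le_antisymm ?_ (Ideal.span_le.2 (Set.range_subset_iff.2 hF))
  have key : ∀ n : ℕ, RingHom.ker α ≤
      Ideal.span (Set.range F) ⊔ ((maximalIdeal A).map MvPolynomial.C) ^ n * RingHom.ker α := by
    have h1 : RingHom.ker α ≤ Ideal.span (Set.range F) ⊔ (maximalIdeal A).map MvPolynomial.C * RingHom.ker α := by
      intro G hG
      obtain ⟨x, hx⟩ : ∃ x, CotT.jmap P x = red P G := by
        have hmem : red P G ∈ LinearMap.range (CotT.jmap P) := by
          rw [CotT.range_jmap]
          exact (hα G).symm.trans (by rw [RingHom.mem_ker.1 hG, map_zero])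
        exact hmem
      choose c hc using fun s => red_surjective P (A := A) (x s)
      have hH : ∑ s ∈ x.support, c s * F s ∈ Ideal.span (Set.range F) :=
        Ideal.sum_mem _ fun s _ => Ideal.mul_mem_left _ _ (Ideal.subset_span ⟨s, rfl⟩)
      rw [show G = ∑ s ∈ x.support, c s * F s + (G - ∑ s ∈ x.support, c s * F s) from (add_sub_cancel _ _).symm]
      refine Submodule.add_mem_sup hH (hα.mem_mul_ker ?_ ?_)
      · rw [map_sub, RingHom.mem_ker.1 hG, map_sum, Finset.sum_eq_zero fun s _ => ?_, sub_zero]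
        rw [map_mul, hF, mul_zero]
      · rw [map_sub, map_sum, sub_eq_zero, ← hx, CotT.jmap, Finsupp.linearCombination_apply, Finsupp.sum]
        exact Finset.sum_congr rfl fun s _ => by rw [map_mul, hc, hred, smul_eq_mul]
    intro n
    induction n with
    | zero => rw [pow_zero, one_mul]; exact le_sup_right
    | succ n ih =>
      refine ih.trans (sup_le le_sup_left ((Ideal.mul_mono le_rfl h1).trans ?_))
      rw [Ideal.mul_sup, ← mul_assoc, ← pow_succ]
      exact sup_le_sup_right Ideal.mul_le_right _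
  obtain ⟨n, hn⟩ := isNilpotent_maximalIdeal A
  refine (key n).trans (sup_le le_rfl ?_)
  rw [← Ideal.map_pow, hn, Ideal.zero_eq_bot, Ideal.map_bot, Ideal.bot_mul]
  exact bot_le

/-- The relations between lifts of the relations. -/
abbrev relA (F : σ → MvPolynomial ι A) : Submodule (MvPolynomial ι A) (σ →₀ MvPolynomial ι A) :=
  LinearMap.ker (Finsupp.linearCombination (MvPolynomial ι A) F)

lemma flat_ker (α : MvPolynomial ι A →ₐ[A] R) (hs : Function.Surjective α) :
    Module.Flat A (LinearMap.ker α.toLinearMap) := by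
  haveI : Module.Free A R := Groth.Agent.S0397.result (isNilpotent_maximalIdeal A)
  obtain ⟨s, hs'⟩ := Module.projective_lifting_property α.toLinearMap LinearMap.id hs
  refine Module.Flat.of_retract (LinearMap.ker α.toLinearMap).subtype
    ((LinearMap.id - s ∘ₗ α.toLinearMap).codRestrict _ fun x => ?_) (LinearMap.ext fun x => Subtype.ext ?_)
  · change (x : MvPolynomial ι A) - s (α.toLinearMap x) = x
    rw [show α.toLinearMap x = 0 from x.2, map_zero, sub_zero]
  · rw [LinearMap.mem_ker, LinearMap.sub_apply, map_sub, LinearMap.id_apply, LinearMap.comp_apply]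
    exact sub_eq_zero.2 (LinearMap.congr_fun hs' _).symm

/-- A relation which vanishes modulo `m` is in `m` times the relations. -/
theorem IsLift.mem_smul_relA (hα : IsLift P R α) {F : σ → MvPolynomial ι A} (hF : ∀ s, α (F s) = 0)
    (hred : ∀ s, red P (F s) = CotT.rel P s) {c : σ →₀ MvPolynomial ι A} (hc : c ∈ relA F)
    (h : ∀ s, red P (c s) = 0) : c ∈ (maximalIdeal A).map (MvPolynomial.C (σ := ι)) • relA F := by
  classical
  haveI := flat_ker α hα.surjective
  let T := c.support.sigma fun s => (c s).support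
  let a : T → A := fun t => (c t.1.1).coeff t.1.2
  let M : T → MvPolynomial ι A := fun t => MvPolynomial.monomial t.1.2 1
  have hcs : ∑ t : T, (MvPolynomial.C (a t) : MvPolynomial ι A) • Finsupp.single t.1.1 (M t) = c := by
    refine (Finset.sum_coe_sort T (fun t : (_ : σ) × (ι →₀ ℕ) => (MvPolynomial.C ((c t.1).coeff t.2) : MvPolynomial ι A) •
      Finsupp.single t.1 (MvPolynomial.monomial t.2 1))).trans ?_
    rw [Finset.sum_sigma]
    conv_rhs => rw [← c.sum_single, Finsupp.sum]
    refine Finset.sum_congr rfl fun s _ => ?_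
    simp_rw [Finsupp.smul_single, smul_eq_mul, MvPolynomial.C_mul_monomial, mul_one]
    rw [← Finsupp.single_finsetSum, ← MvPolynomial.as_sum]
  let x : T → LinearMap.ker α.toLinearMap := fun t => ⟨M t * F t.1.1, by
    rw [LinearMap.mem_ker, AlgHom.toLinearMap_apply, map_mul, hF, mul_zero]⟩
  have hrel : ∑ t, a t • x t = 0 := by
    refine Subtype.ext ?_
    have h0 := congrArg (Finsupp.linearCombination (MvPolynomial ι A) F) hcs
    rw [map_sum, LinearMap.mem_ker.1 hc] at h0
    rw [Submodule.coe_sum, ZeroMemClass.coe_zero, ← h0]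
    refine Finset.sum_congr rfl fun t _ => ?_
    rw [map_smul, Finsupp.linearCombination_single, Submodule.coe_smul, smul_eq_mul, smul_eq_mul, ← MvPolynomial.C_mul']
  obtain ⟨l, b, y, hy, hb⟩ := Module.Flat.isTrivialRelation_of_sum_smul_eq_zero hrel
  have hY : ∀ j, ∃ Y : σ →₀ MvPolynomial ι A, Finsupp.linearCombination (MvPolynomial ι A) F Y = (y j : MvPolynomial ι A) :=
    fun j => Finsupp.mem_span_range_iff_exists_finsupp.1 ((hα.ker_eq_span hF hred).le (y j).2) |>.imp
      fun Y hY => (Finsupp.linearCombination_apply _ _).trans hY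
  choose Y hY using hY
  have hc' : c = ∑ t, (MvPolynomial.C (a t) : MvPolynomial ι A) • (Finsupp.single t.1.1 (M t) - ∑ j, (MvPolynomial.C (b t j) : MvPolynomial ι A) • Y j) := by
    simp_rw [smul_sub, Finset.sum_sub_distrib, hcs, Finset.smul_sum]
    rw [Finset.sum_comm, Finset.sum_eq_zero fun j _ => ?_, sub_zero]
    simp_rw [smul_smul, ← map_mul, ← Finset.sum_smul, ← map_sum]
    rw [hb j, map_zero, zero_smul]
  rw [hc']
  refine Submodule.sum_mem _ fun t _ => Submodule.smul_mem_smul (Ideal.mem_map_of_mem _ ?_) ?_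
  · have := h t.1.1
    exact (MvPolynomial.mem_map_C_iff.1 (mem_of_red_eq_zero P this)) _
  · rw [LinearMap.mem_ker, map_sub, map_sum, Finsupp.linearCombination_single, smul_eq_mul]
    have := congrArg Subtype.val (hy t)
    rw [Submodule.coe_sum] at this
    refine sub_eq_zero.2 (this.trans (Finset.sum_congr rfl fun j _ => ?_))
    rw [map_smul, hY, Submodule.coe_smul, smul_eq_mul, ← MvPolynomial.C_mul']

end Rel

variable {p : A' ⟶ A}

/-- Coefficientwise image along `p`. -/
abbrev mp (p : A' ⟶ A) : MvPolynomial ι A' →+* MvPolynomial ι A := MvPolynomial.map p.toAlgHom.toRingHom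

lemma red_mp (G : MvPolynomial ι A') : red P (mp p G) = red P G := by
  refine RingHom.congr_fun (MvPolynomial.ringHom_ext (f := (red P).comp (mp p)) (g := red P)
    (fun a => ?_) fun i => ?_) G
  · simp only [RingHom.comp_apply, MvPolynomial.map_C, red_C]
    exact congrArg _ (ArtFun.Art.res_app p a)
  · simp only [RingHom.comp_apply, MvPolynomial.map_X, red_X]

lemma mp_eq_zero_iff {G : MvPolynomial ι A'} :
    mp p G = 0 ↔ G ∈ (RingHom.ker p.toAlgHom).map MvPolynomial.C := by
  rw [← RingHom.mem_ker, MvPolynomial.ker_map]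
  rfl

section Ev

variable (hp : maximalIdeal A' * RingHom.ker p.toAlgHom = ⊥)

variable (p) in
/-- A `k`-linear projection of `A'` on `J`. -/
def proJ : A' →ₗ[k] RingHom.ker p.toAlgHom :=
  (LinearMap.exists_leftInverse_of_injective
    ((RingHom.ker p.toAlgHom).restrictScalars k).subtype (Submodule.ker_subtype _)).choose

lemma proJ_coe (j : RingHom.ker p.toAlgHom) : proJ p (j : A') = j :=
  LinearMap.congr_fun (LinearMap.exists_leftInverse_of_injective
    ((RingHom.ker p.toAlgHom).restrictScalars k).subtype (Submodule.ker_subtype _)).choose_spec j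

variable (P p) in
/-- The value in `B ⊗ J` of an element of `J A'[x]`. -/
def ev : MvPolynomial ι A' →+ B ⊗[k] RingHom.ker p.toAlgHom :=
  (Finsupp.liftAddHom fun d : ι →₀ ℕ =>
    ((TensorProduct.mk k B (RingHom.ker p.toAlgHom)
      (algebraMap P.toExtension.Ring B (MvPolynomial.monomial d (1 : k)))).comp (proJ p)).toAddMonoidHom).comp
    (MvPolynomial.basisMonomials ι A').repr.toLinearMap.toAddMonoidHom

lemma ev_monomial (d : ι →₀ ℕ) (a : A') : ev P p (MvPolynomial.monomial d a) =
    algebraMap P.toExtension.Ring B (MvPolynomial.monomial d (1 : k)) ⊗ₜ[k] proJ p a := by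
  have h : (MvPolynomial.basisMonomials ι A').repr (MvPolynomial.monomial d a) = Finsupp.single d a := by
    have h1 : (MvPolynomial.monomial d a : MvPolynomial ι A') = a • MvPolynomial.basisMonomials ι A' d := by
      rw [MvPolynomial.coe_basisMonomials, MvPolynomial.smul_monomial, smul_eq_mul, mul_one]
    rw [h1, map_smul, Module.Basis.repr_self, Finsupp.smul_single, smul_eq_mul, mul_one]
  exact (congrArg _ h).trans (Finsupp.liftAddHom_apply_single _ d a)

include hp in
lemma ev_C_mul (j : RingHom.ker p.toAlgHom) (G : MvPolynomial ι A') :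
    ev P p (MvPolynomial.C (j : A') * G) = algebraMap P.toExtension.Ring B (red P G) ⊗ₜ[k] j := by
  induction G using MvPolynomial.induction_on' with
  | monomial d a =>
    have h1 : (j : A') * a = algebraMap k A' (A'.res a) * j := by rw [mul_comm, ker_mul_eq hp]
    have h2 : (red P (MvPolynomial.monomial d a) : MvPolynomial ι k) =
        MvPolynomial.C (A'.res a) * MvPolynomial.monomial d (1 : k) := by
      exact (MvPolynomial.map_monomial _ _ _).trans (MvPolynomial.C_mul_monomial.trans (by rw [mul_one]; rfl)).symm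
    have h3 : algebraMap P.toExtension.Ring B (red P (MvPolynomial.monomial d a)) =
        A'.res a • algebraMap P.toExtension.Ring B (MvPolynomial.monomial d (1 : k)) := by
      refine (congrArg (algebraMap P.toExtension.Ring B) h2).trans ?_
      refine (map_mul (algebraMap P.toExtension.Ring B) (MvPolynomial.C (A'.res a) : MvPolynomial ι k) _).trans ?_
      rw [Algebra.smul_def]
      refine congrArg (· * _) ?_
      exact (IsScalarTower.algebraMap_apply k P.toExtension.Ring B (A'.res a)).symm
    rw [MvPolynomial.C_mul_monomial, ev_monomial, h1, h3,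
      show algebraMap k A' (A'.res a) * (j : A') = ((A'.res a • j : RingHom.ker p.toAlgHom) : A') from
        (Algebra.smul_def _ _).symm,
      proJ_coe, tmul_smul, TensorProduct.smul_tmul']
  | add G H hG hH => rw [mul_add, map_add, hG, hH, map_add, map_add, add_tmul]

include hp in
lemma ev_mul {H : MvPolynomial ι A'} (hH : H ∈ (RingHom.ker p.toAlgHom).map MvPolynomial.C)
    (G : MvPolynomial ι A') :
    ev P p (G * H) = algebraMap P.toExtension.Ring B (red P G) • ev P p H := by
  refine Submodule.span_induction (p := fun H _ => ∀ G, ev P p (G * H) =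
    algebraMap P.toExtension.Ring B (red P G) • ev P p H) ?_ ?_ ?_ ?_ hH G
  · rintro _ ⟨j, hj, rfl⟩ G
    rw [mul_comm G, ev_C_mul hp ⟨j, hj⟩ G,
      show ev P p (MvPolynomial.C j) = algebraMap P.toExtension.Ring B (red P 1) ⊗ₜ[k] (⟨j, hj⟩ : RingHom.ker p.toAlgHom) by
        rw [← ev_C_mul hp ⟨j, hj⟩ 1, mul_one],
      TensorProduct.smul_tmul', map_one, map_one, smul_eq_mul, mul_one]
  · intro G; rw [mul_zero, map_zero, smul_zero]
  · intro x y _ _ hx hy G; rw [mul_add, map_add, hx, hy, map_add, smul_add]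
  · intro c x _ hx G
    rw [smul_eq_mul, ← mul_assoc, hx, hx, map_mul, map_mul, mul_smul]

include hp in
lemma exists_ev_eq (z : B ⊗[k] RingHom.ker p.toAlgHom) :
    ∃ H ∈ (RingHom.ker p.toAlgHom).map (MvPolynomial.C (σ := ι)), red P H = 0 ∧ ev P p H = z := by
  induction z using TensorProduct.induction_on with
  | zero => exact ⟨0, zero_mem _, map_zero _, map_zero _⟩
  | tmul b j =>
    obtain ⟨r, rfl⟩ := CotTLib.surjective_algebraMap P b
    obtain ⟨G, rfl⟩ := red_surjective P (A := A') r
    exact ⟨MvPolynomial.C (j : A') * G, Ideal.mul_mem_right _ _ (Ideal.mem_map_of_mem _ j.2),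
      by rw [map_mul, red_C, res_eq_zero (ker_le_maximalIdeal p j.2), map_zero, zero_mul], ev_C_mul hp j G⟩
  | add a b ha hb =>
    obtain ⟨H, h1, h2, h3⟩ := ha
    obtain ⟨G, g1, g2, g3⟩ := hb
    exact ⟨H + G, add_mem h1 g1, by rw [map_add, h2, g2, add_zero], by rw [map_add, h3, g3]⟩

end Ev

section Data

variable {R : AlgDef B A}

lemma mp_linearCombination {F : σ → MvPolynomial ι A} {F' : σ → MvPolynomial ι A'} (hF' : ∀ s, mp p (F' s) = F s)
    (c : σ →₀ MvPolynomial ι A') : mp p (Finsupp.linearCombination (MvPolynomial ι A') F' c) =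
      Finsupp.linearCombination (MvPolynomial ι A) F (c.mapRange (mp p) (map_zero _)) := by
  simp only [Finsupp.linearCombination_apply]
  rw [map_finsuppSum, Finsupp.sum_mapRange_index (by intro s; exact zero_smul _ _)]
  exact Finsupp.sum_congr fun s _ => by rw [smul_eq_mul, smul_eq_mul, map_mul, hF']

lemma red_linearCombination {F' : σ → MvPolynomial ι A'} (hred : ∀ s, red P (F' s) = CotT.rel P s)
    (c : σ →₀ MvPolynomial ι A') : red P (Finsupp.linearCombination (MvPolynomial ι A') F' c) =
      CotT.jmap P (c.mapRange (red P) (map_zero _)) := by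
  simp only [CotT.jmap, Finsupp.linearCombination_apply]
  rw [map_finsuppSum, Finsupp.sum_mapRange_index (by intro s; exact zero_smul _ _)]
  exact Finsupp.sum_congr fun s _ => by rw [smul_eq_mul, smul_eq_mul, map_mul, hred]

/-- Every relation lifts to one with value in `J A'[x]`. -/
theorem exists_relation (hps : Function.Surjective p.toAlgHom) {α : MvPolynomial ι A →ₐ[A] R} (hα : IsLift P R α)
    {F' : σ → MvPolynomial ι A'} (hF : ∀ s, α (mp p (F' s)) = 0) (hF'red : ∀ s, red P (F' s) = CotT.rel P s)
    (x : CotT.relKer P) :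
    ∃ c : σ →₀ MvPolynomial ι A', c.mapRange (red P) (map_zero _) = (x : CotT.relMod P) ∧
      Finsupp.linearCombination (MvPolynomial ι A') F' c ∈ (RingHom.ker p.toAlgHom).map MvPolynomial.C := by
  classical
  let F : σ → MvPolynomial ι A := fun s => mp p (F' s)
  have hmp : Function.Surjective (mp (ι := ι) p) := MvPolynomial.map_surjective _ hps
  have hFred : ∀ s, red P (F s) = CotT.rel P s := fun s => (red_mp _).trans (hF'red s)
  let L := Finsupp.linearCombination (MvPolynomial ι A') F'
  have hmpL : ∀ c : σ →₀ MvPolynomial ι A',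
      mp p (L c) = Finsupp.linearCombination (MvPolynomial ι A) F (c.mapRange (mp p) (map_zero _)) :=
    mp_linearCombination fun _ => rfl
  have hredL : ∀ c : σ →₀ MvPolynomial ι A',
      red P (L c) = CotT.jmap P (c.mapRange (red P) (map_zero _)) := red_linearCombination hF'red
  obtain ⟨c₀, hc₀⟩ := Finsupp.mapRange_surjective (red P (A := A')) (map_zero _) (red_surjective P) (x : CotT.relMod P)
  have hG0 : α (mp p (L c₀)) = 0 := by
    rw [hmpL, Finsupp.linearCombination_apply, map_finsuppSum]
    exact Finset.sum_eq_zero fun s _ => by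
      change α (_ * F s) = 0
      rw [map_mul, hF, mul_zero]
  have hGred : red P (mp p (L c₀)) = 0 := by rw [red_mp, hredL, hc₀]; exact x.2
  have hG := hα.mem_mul_ker hG0 hGred
  rw [hα.ker_eq_span hF hFred] at hG
  obtain ⟨d, hd, hd'⟩ : ∃ d : σ →₀ MvPolynomial ι A,
      (∀ s, red P (d s) = 0) ∧ Finsupp.linearCombination (MvPolynomial ι A) F d = mp p (L c₀) := by
    refine Submodule.mul_induction_on hG (fun m hm g hg => ?_) fun x y ⟨a, ha, ha'⟩ ⟨b, hb, hb'⟩ => ?_
    · obtain ⟨e, rfl⟩ := Finsupp.mem_span_range_iff_exists_finsupp.1 hg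
      refine ⟨m • e, fun s => ?_, by rw [map_smul, Finsupp.linearCombination_apply, smul_eq_mul]⟩
      have : (maximalIdeal A).map MvPolynomial.C ≤ RingHom.ker (red P (A := A)) :=
        Ideal.map_le_iff_le_comap.2 fun a ha => by
          rw [Ideal.mem_comap, RingHom.mem_ker, red_C, res_eq_zero ha, map_zero]
      rw [Finsupp.smul_apply, smul_eq_mul, map_mul, RingHom.mem_ker.1 (this hm), zero_mul]
    · exact ⟨a + b, fun s => by rw [Finsupp.add_apply, map_add, ha, hb, add_zero], by rw [map_add, ha', hb']⟩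
  obtain ⟨d', hd''⟩ := Finsupp.mapRange_surjective (mp (ι := ι) p) (map_zero _) hmp d
  refine ⟨c₀ - d', ?_, mp_eq_zero_iff.1 ?_⟩
  · refine Finsupp.ext fun s => ?_
    rw [Finsupp.mapRange_apply, Finsupp.sub_apply, map_sub, ← hc₀, Finsupp.mapRange_apply,
      ← red_mp (p := p) (d' s), ← Finsupp.mapRange_apply (f := mp p) (hf := map_zero _), hd'', hd, sub_zero]
  · rw [map_sub, map_sub, hmpL d', hd'', hd', sub_self]

variable (p P) in
/-- Lifted relations, with the obstruction cochain they define. -/
structure ObsData (R : AlgDef B A) where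
  /-- The lift of the presentation. -/
  α : MvPolynomial ι A →ₐ[A] R
  isLift : IsLift P R α
  /-- The lifted relations. -/
  F' : σ → MvPolynomial ι A'
  apply_F' : ∀ s, α (mp p (F' s)) = 0
  red_F' : ∀ s, red P (F' s) = CotT.rel P s
  /-- The cochain. -/
  Ω : CotT.L2 P →ₗ[B] B ⊗[k] RingHom.ker p.toAlgHom
  hΩ : ∀ (x : CotT.relKer P) (c : σ →₀ MvPolynomial ι A'), c.mapRange (red P) (map_zero _) = (x : CotT.relMod P) →
    Finsupp.linearCombination (MvPolynomial ι A') F' c ∈ (RingHom.ker p.toAlgHom).map MvPolynomial.C →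
      Ω (CotTLib.mk2 P x) = ev P p (Finsupp.linearCombination (MvPolynomial ι A') F' c)

/-- Lifted relations give an obstruction cochain. -/
theorem exists_obsData (hps : Function.Surjective p.toAlgHom) (hp : maximalIdeal A' * RingHom.ker p.toAlgHom = ⊥)
    {α : MvPolynomial ι A →ₐ[A] R} (hα : IsLift P R α)
    {F' : σ → MvPolynomial ι A'} (hF : ∀ s, α (mp p (F' s)) = 0) (hF'red : ∀ s, red P (F' s) = CotT.rel P s) :
    ∃ d : ObsData P p R, d.α = α ∧ d.F' = F' := by
  classical
  let F : σ → MvPolynomial ι A := fun s => mp p (F' s)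
  have hmp : Function.Surjective (mp (ι := ι) p) := MvPolynomial.map_surjective _ hps
  have hFred : ∀ s, red P (F s) = CotT.rel P s := fun s => (red_mp _).trans (hF'red s)
  let J := (RingHom.ker p.toAlgHom).map (MvPolynomial.C (σ := ι) (R := A'))
  let L := Finsupp.linearCombination (MvPolynomial ι A') F'
  have hmpL : ∀ c : σ →₀ MvPolynomial ι A',
      mp p (L c) = Finsupp.linearCombination (MvPolynomial ι A) F (c.mapRange (mp p) (map_zero _)) :=
    mp_linearCombination fun _ => rfl
  have hredL : ∀ c : σ →₀ MvPolynomial ι A',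
      red P (L c) = CotT.jmap P (c.mapRange (red P) (map_zero _)) := red_linearCombination hF'red
  have hLJ : ∀ c : σ →₀ MvPolynomial ι A', (∀ s, c s ∈ J) → ev P p (L c) = 0 := by
    intro c hc
    simp only [L, Finsupp.linearCombination_apply]
    rw [map_finsuppSum]
    refine Finset.sum_eq_zero fun s _ => ?_
    change ev P p (c s * F' s) = 0
    rw [mul_comm, ev_mul hp (hc s), hF'red, CotT.algebraMap_rel, zero_smul]
  -- relations modulo `m` give no obstruction
  have hM : ∀ δ : σ →₀ MvPolynomial ι A', (∀ s, red P (δ s) = 0) → L δ ∈ J → ev P p (L δ) = 0 := by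
    intro δ hδ hLδ
    have hx : δ.mapRange (mp p) (map_zero _) ∈ (maximalIdeal A).map (MvPolynomial.C (σ := ι)) • relA F :=
      hα.mem_smul_relA hF hFred (LinearMap.mem_ker.2 ((hmpL δ).symm.trans (mp_eq_zero_iff.2 hLδ)))
        fun s => by rw [Finsupp.mapRange_apply, red_mp, hδ]
    obtain ⟨δ₀, h1, h2⟩ : ∃ δ₀ : σ →₀ MvPolynomial ι A',
        δ₀.mapRange (mp p) (map_zero _) = δ.mapRange (mp p) (map_zero _) ∧ L δ₀ = 0 := by
      refine Submodule.smul_induction_on hx (fun m hm ε hε => ?_) fun x y ⟨a, ha, ha'⟩ ⟨b, hb, hb'⟩ => ?_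
      · obtain ⟨m', rfl⟩ := hmp m
        obtain ⟨ε', rfl⟩ := Finsupp.mapRange_surjective (mp p) (map_zero _) hmp ε
        refine ⟨m' • ε', Finsupp.ext fun s => ?_, ?_⟩
        · rw [Finsupp.mapRange_apply, Finsupp.smul_apply, Finsupp.smul_apply, Finsupp.mapRange_apply,
            smul_eq_mul, smul_eq_mul, map_mul]
        · have hm' : m' ∈ (maximalIdeal A').map MvPolynomial.C := by
            refine mem_of_red_eq_zero P ?_
            rw [← red_mp (p := p)]
            have : (maximalIdeal A).map MvPolynomial.C ≤ RingHom.ker (red P (A := A)) :=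
              Ideal.map_le_iff_le_comap.2 fun a ha => by
                rw [Ideal.mem_comap, RingHom.mem_ker, red_C, res_eq_zero ha, map_zero]
            exact this hm
          have hε' : L ε' ∈ J := mp_eq_zero_iff.1 ((hmpL ε').trans (LinearMap.mem_ker.1 hε))
          have h := Ideal.mul_mem_mul hm' hε'
          rw [← Ideal.map_mul, hp, Ideal.map_bot, Ideal.mem_bot] at h
          rw [map_smul, smul_eq_mul, h]
      · exact ⟨a + b, by rw [Finsupp.mapRange_add (map_add _), ha, hb], by rw [map_add, ha', hb', add_zero]⟩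
    have h3 : ∀ s, (δ - δ₀) s ∈ J := fun s => mp_eq_zero_iff.1 (by
      have := DFunLike.congr_fun h1 s
      rw [Finsupp.mapRange_apply, Finsupp.mapRange_apply] at this
      rw [Finsupp.sub_apply, map_sub, this, sub_self])
    have := hLJ (δ - δ₀) h3
    rwa [map_sub, h2, sub_zero] at this
  choose cl hcl hclJ using exists_relation hps hα hF hF'red
  let w : CotT.relKer P → B ⊗[k] RingHom.ker p.toAlgHom := fun x => ev P p (L (cl x))
  have hw : ∀ (x : CotT.relKer P) (c : σ →₀ MvPolynomial ι A'), c.mapRange (red P) (map_zero _) = (x : CotT.relMod P) → L c ∈ J → w x = ev P p (L c) := by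
    intro x c hc hcJ
    have h := hM (cl x - c) (fun s => by
      have h1 := DFunLike.congr_fun ((hcl x).trans hc.symm) s
      rw [Finsupp.mapRange_apply, Finsupp.mapRange_apply] at h1
      rw [Finsupp.sub_apply, map_sub, h1, sub_self]) (by rw [map_sub]; exact sub_mem (hclJ x) hcJ)
    rwa [map_sub, map_sub, sub_eq_zero] at h
  have hwadd : ∀ x y : CotT.relKer P, w (x + y) = w x + w y := fun x y => by
    rw [hw (x + y) (cl x + cl y) (by rw [Finsupp.mapRange_add (map_add _), hcl, hcl]; rfl)
      (by rw [map_add]; exact add_mem (hclJ x) (hclJ y)), map_add, map_add]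
  have hwsmul : ∀ (r : P.toExtension.Ring) (x : CotT.relKer P), w (r • x) = algebraMap P.toExtension.Ring B r • w x := by
    intro r x
    obtain ⟨G, rfl⟩ := red_surjective P (A := A') r
    rw [hw (red P G • x) (G • cl x) (Finsupp.ext fun s => by
      rw [Finsupp.mapRange_apply, Finsupp.smul_apply, smul_eq_mul, map_mul,
        ← Finsupp.mapRange_apply (f := red P) (hf := map_zero _), hcl, Submodule.coe_smul, Finsupp.smul_apply,
        smul_eq_mul]) (by rw [map_smul]; exact Ideal.mul_mem_left _ _ (hclJ x)),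
      map_smul, smul_eq_mul, ev_mul hp (hclJ x)]
  have hwtriv : ∀ x : CotT.relKer P, (x : CotT.relMod P) ∈ CotT.trivRel P → w x = 0 := by
    intro x hx
    suffices h : ∃ c : σ →₀ MvPolynomial ι A', c.mapRange (red P) (map_zero _) = (x : CotT.relMod P) ∧ L c = 0 by
      obtain ⟨c, h1, h2⟩ := h
      rw [hw x c h1 (h2 ▸ zero_mem _), h2, map_zero]
    refine Submodule.span_induction (p := fun y _ => ∃ c : σ →₀ MvPolynomial ι A',
      c.mapRange (red P) (map_zero _) = y ∧ L c = 0) ?_ ⟨0, Finsupp.mapRange_zero, map_zero _⟩ ?_ ?_ hx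
    · rintro _ ⟨a, b, rfl⟩
      obtain ⟨a', rfl⟩ := Finsupp.mapRange_surjective (red P (A := A')) (map_zero _) (red_surjective P) a
      obtain ⟨b', rfl⟩ := Finsupp.mapRange_surjective (red P (A := A')) (map_zero _) (red_surjective P) b
      refine ⟨L a' • b' - L b' • a', Finsupp.ext fun s => ?_, ?_⟩
      · rw [← hredL, ← hredL]
        simp only [Finsupp.mapRange_apply, Finsupp.sub_apply, Finsupp.smul_apply, smul_eq_mul, map_sub, map_mul]
      · rw [map_sub, map_smul, map_smul, smul_eq_mul, smul_eq_mul, mul_comm, sub_self]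
    · rintro y z - - ⟨a, ha, ha'⟩ ⟨b, hb, hb'⟩
      exact ⟨a + b, by rw [Finsupp.mapRange_add (map_add _), ha, hb], by rw [map_add, ha', hb', add_zero]⟩
    · rintro r y - ⟨a, ha, ha'⟩
      obtain ⟨G, rfl⟩ := red_surjective P (A := A') r
      refine ⟨G • a, Finsupp.ext fun s => ?_, by rw [map_smul, ha', smul_zero]⟩
      rw [Finsupp.mapRange_apply, Finsupp.smul_apply, smul_eq_mul, map_mul, ← ha, Finsupp.smul_apply,
        Finsupp.mapRange_apply, smul_eq_mul]
  have hwker : ∀ x y : CotT.relKer P, CotTLib.mk2 P x = CotTLib.mk2 P y → w x = w y := fun x y hxy => by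
    let z : CotT.relKer P := ⟨(x : CotT.relMod P) - (y : CotT.relMod P), sub_mem x.2 y.2⟩
    have hz : z + y = x := Subtype.ext (sub_add_cancel _ _)
    have h1 : CotTLib.mk2 P z + CotTLib.mk2 P y = CotTLib.mk2 P x := by rw [← map_add, hz]
    rw [hxy, add_eq_right] at h1
    rw [← hz, hwadd, hwtriv z (CotTLib.mem_trivRel_of_mk2_eq_zero P h1), zero_add]
  let sec := Function.surjInv (CotTLib.mk2_surjective P)
  have hsec : ∀ z, CotTLib.mk2 P (sec z) = z := Function.surjInv_eq (CotTLib.mk2_surjective P)
  let Ω : CotT.L2 P →ₗ[B] B ⊗[k] RingHom.ker p.toAlgHom :=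
    { toFun := fun z => w (sec z)
      map_add' := fun z z' => by rw [← hwadd]; exact hwker _ _ (by rw [map_add, hsec, hsec, hsec])
      map_smul' := fun b z => by
        obtain ⟨r, rfl⟩ := CotTLib.surjective_algebraMap P b
        rw [RingHom.id_apply, ← hwsmul]
        exact hwker _ _ (by rw [CotTLib.mk2_smul, hsec, hsec]) }
  exact ⟨⟨α, hα, F', hF, hF'red, Ω, fun x c hc hcJ => (hwker _ _ (hsec _)).trans (hw x c hc hcJ)⟩, rfl, rfl⟩

/-- If the obstruction cochain is a coboundary, the deformation lifts. -/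
theorem ObsData.exists_red (hps : Function.Surjective p.toAlgHom) (hp : maximalIdeal A' * RingHom.ker p.toAlgHom = ⊥)
    (d : ObsData P p R) (hd : ∃ φ, CotT.d2Star P _ φ = d.Ω) :
    ∃ R' : AlgDef B A', Nonempty (Red p R' R) := by
  classical
  obtain ⟨α, hα, F', hF, hF'red, Ω, hΩd⟩ := d
  obtain ⟨φ, hφ⟩ : ∃ φ, CotT.d2Star P _ φ = Ω := hd
  let F : σ → MvPolynomial ι A := fun s => mp p (F' s)
  have hF' : ∀ s, mp p (F' s) = F s := fun _ => rfl
  have hmp : Function.Surjective (mp (ι := ι) p) := MvPolynomial.map_surjective _ hps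
  have hFred : ∀ s, red P (F s) = CotT.rel P s := fun s => (red_mp _).trans (hF'red s)
  let J := (RingHom.ker p.toAlgHom).map (MvPolynomial.C (σ := ι) (R := A'))
  let L := Finsupp.linearCombination (MvPolynomial ι A') F'
  have hredL : ∀ c : σ →₀ MvPolynomial ι A',
      red P (L c) = CotT.jmap P (c.mapRange (red P) (map_zero _)) := red_linearCombination hF'red
  -- the corrected relations
  choose H hHJ hH0 hHev using fun s => exists_ev_eq (P := P) hp (φ (CotT.L1basis P s))
  let F'' : σ → MvPolynomial ι A' := fun s => F' s - H s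
  have hF''red : ∀ s, red P (F'' s) = CotT.rel P s := fun s => by rw [map_sub, hH0, sub_zero, hF'red]
  have hF''mp : ∀ s, mp p (F'' s) = F s := fun s => by rw [map_sub, hF', mp_eq_zero_iff.2 (hHJ s), sub_zero]
  let I : Ideal (MvPolynomial ι A') := Ideal.span (Set.range F'')
  have hI0 : ∀ G ∈ I, (α.toRingHom.comp (mp p)) G = 0 := fun G hG => by
    have : I ≤ RingHom.ker (α.toRingHom.comp (mp p)) := Ideal.span_le.2 (Set.range_subset_iff.2 fun s => by
      change α (mp p (F'' s)) = 0
      rw [hF''mp, hF])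
    exact this hG
  let q : MvPolynomial ι A' ⧸ I →+* R := Ideal.Quotient.lift I (α.toRingHom.comp (mp p)) hI0
  have hq : ∀ G, q (Ideal.Quotient.mk I G) = α (mp p G) := fun G => rfl
  have hqs : Function.Surjective q := fun y => by
    obtain ⟨G, rfl⟩ := hα.surjective y
    obtain ⟨G', rfl⟩ := hmp G
    exact ⟨Ideal.Quotient.mk I G', hq G'⟩
  have hmk : (Ideal.Quotient.mk I).comp MvPolynomial.C = algebraMap A' (MvPolynomial ι A' ⧸ I) := rfl
  have hqa : ∀ a, q (algebraMap A' _ a) = algebraMap A R (p.toAlgHom a) := fun a => by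
    rw [← hmk, RingHom.comp_apply, hq, MvPolynomial.map_C, ← MvPolynomial.algebraMap_eq, α.commutes]
    rfl
  have hspan : Ideal.span (Set.range F) = I.map (mp p) := by
    rw [Ideal.map_span, ← Set.range_comp]
    exact congrArg _ (congrArg _ (funext fun s => (hF''mp s).symm))
  have hkq : RingHom.ker q ≤ (RingHom.ker p.toAlgHom).map (algebraMap A' (MvPolynomial ι A' ⧸ I)) := by
    intro y hy
    obtain ⟨G, rfl⟩ := Ideal.Quotient.mk_surjective y
    have h0 : mp p G ∈ I.map (mp p) := hspan ▸ (hα.ker_eq_span hF hFred).le (RingHom.mem_ker.2 hy)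
    obtain ⟨G', hG', hG''⟩ := (Ideal.mem_map_iff_of_surjective _ hmp).1 h0
    rw [show Ideal.Quotient.mk I G = Ideal.Quotient.mk I (G - G') from
      Ideal.Quotient.eq.2 (by rw [sub_sub_cancel]; exact hG'), ← hmk, ← Ideal.map_map]
    exact Ideal.mem_map_of_mem _ (mp_eq_zero_iff.1 (by rw [map_sub, hG'', sub_self]))
  have hkp : RingHom.ker (R.proj.comp q) ≤ (maximalIdeal A').map (algebraMap A' (MvPolynomial ι A' ⧸ I)) := by
    intro y hy
    obtain ⟨G, rfl⟩ := Ideal.Quotient.mk_surjective y
    obtain ⟨x, hx⟩ : ∃ x, CotT.jmap P x = red P G := by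
      have hmem : red P G ∈ LinearMap.range (CotT.jmap P) := by
        rw [CotT.range_jmap]
        exact (red_mp (P := P) (p := p) G) ▸ (hα (mp p G)).symm.trans hy
      exact hmem
    obtain ⟨c, rfl⟩ := Finsupp.mapRange_surjective (red P (A := A')) (map_zero _) (red_surjective P) x
    have hc : ∑ s ∈ c.support, c s * F'' s ∈ I :=
      Ideal.sum_mem _ fun s _ => Ideal.mul_mem_left _ _ (Ideal.subset_span ⟨s, rfl⟩)
    rw [show Ideal.Quotient.mk I G = Ideal.Quotient.mk I (G - ∑ s ∈ c.support, c s * F'' s) from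
      Ideal.Quotient.eq.2 (by rw [sub_sub_cancel]; exact hc), ← hmk, ← Ideal.map_map]
    refine Ideal.mem_map_of_mem _ (mem_of_red_eq_zero P ?_)
    rw [map_sub, map_sum, sub_eq_zero, ← hx, CotT.jmap, Finsupp.linearCombination_apply,
      Finsupp.sum_mapRange_index (by intro s; exact zero_smul _ _)]
    exact Finset.sum_congr rfl fun s _ => by simp only [map_mul, hF''red, smul_eq_mul]
  have hev0 : ∀ G ∈ I, G ∈ J → ev P p G = 0 := by
    intro G hG hGJ
    obtain ⟨c, rfl⟩ := Finsupp.mem_span_range_iff_exists_finsupp.1 hG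
    have hsplit : (c.sum fun s a => a • F'' s) = L c - c.sum fun s a => a * H s := by
      simp only [L, Finsupp.linearCombination_apply, Finsupp.sum, F'', smul_eq_mul, mul_sub, Finset.sum_sub_distrib]
    have hHJ' : (c.sum fun s a => a * H s) ∈ J := Ideal.sum_mem _ fun s _ => Ideal.mul_mem_left _ _ (hHJ s)
    rw [hsplit] at hGJ ⊢
    have hLc : L c ∈ J := by simpa using add_mem hGJ hHJ'
    have hrel : (c.mapRange (red P) (map_zero _) : CotT.relMod P) ∈ CotT.relKer P := by
      change CotT.jmap P _ = 0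
      rw [← hredL]
      have : J ≤ RingHom.ker (red P (A := A')) := Ideal.map_le_iff_le_comap.2 fun a ha => by
        rw [Ideal.mem_comap, RingHom.mem_ker, red_C, res_eq_zero (ker_le_maximalIdeal p ha), map_zero]
      exact this hLc
    have hΩ : Ω (CotTLib.mk2 P ⟨_, hrel⟩) = ev P p (L c) :=
      hΩd _ c rfl hLc
    have hphi : φ (CotTLib.mk1 P (c.mapRange (red P) (map_zero _))) = ev P p (c.sum fun s a => a * H s) := by
      conv_lhs => rw [← Finsupp.sum_single (c.mapRange (red P) (map_zero _)),
        Finsupp.sum_mapRange_index (by intro s; exact Finsupp.single_zero s), map_finsuppSum, map_finsuppSum]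
      rw [map_finsuppSum]
      exact Finsupp.sum_congr fun s _ => by rw [CotTLib.mk1_single, map_smul, ev_mul hp (hHJ s), hHev]
    rw [map_sub, ← hΩ, ← hφ, CotT.d2Star_apply, LinearMap.comp_apply, CotTLib.d2_mk2, hphi, sub_self]
  have hinj : ∀ (τ : Type u) (s : Finset τ) (y : τ → MvPolynomial ι A' ⧸ I) (j : τ → RingHom.ker p.toAlgHom),
      ∑ i ∈ s, algebraMap A' _ (j i : A') * y i = 0 → ∑ i ∈ s, R.proj (q (y i)) ⊗ₜ[k] j i = 0 := by
    intro τ s y j h
    choose Y hY using fun i => Ideal.Quotient.mk_surjective (y i)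
    have hmem : ∑ i ∈ s, MvPolynomial.C (j i : A') * Y i ∈ I := by
      rw [← Ideal.Quotient.eq_zero_iff_mem, map_sum, ← h]
      exact Finset.sum_congr rfl fun i _ => by rw [map_mul, hY]; rfl
    have h0 := hev0 _ hmem (Ideal.sum_mem _ fun i _ => Ideal.mul_mem_right _ _ (Ideal.mem_map_of_mem _ (j i).2))
    rw [map_sum] at h0
    rw [← h0]
    exact Finset.sum_congr rfl fun i _ => by rw [ev_C_mul hp, ← hY i, hq, hα, red_mp]
  haveI := free_of_inj R q hqs hqa hkp hinj
  let R' : AlgDef B A' :=
    { carrier := MvPolynomial ι A' ⧸ I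
      proj := R.proj.comp q
      proj_algebraMap := fun a => by rw [RingHom.comp_apply, hqa, R.proj_algebraMap, ArtFun.Art.res_app]
      proj_surjective := R.proj_surjective.comp hqs
      ker_proj_le := hkp
      flat := inferInstance }
  exact ⟨R', ⟨⟨q, hqa, fun _ => rfl, hqs, hkq⟩⟩⟩

/-- Obstruction data exist. -/
theorem exists_obsData' (P : Algebra.Presentation k B ι σ) (hps : Function.Surjective p.toAlgHom)
    (hp : maximalIdeal A' * RingHom.ker p.toAlgHom = ⊥) (R : AlgDef B A) : Nonempty (ObsData P p R) := by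
  obtain ⟨α, hα⟩ := exists_isLift (P := P) R
  choose F hF hFred using fun s => hα.exists_ker_lift (CotT.algebraMap_rel P s)
  choose F' hF' using fun s => MvPolynomial.map_surjective _ hps (F s)
  obtain ⟨d, -, -⟩ := exists_obsData hps hp hα (F' := F') (fun s => by rw [hF', hF])
    fun s => by rw [← red_mp (p := p), hF', hFred]
  exact ⟨d⟩

/-- If `T²(B/k, B ⊗ J) = 0`, every deformation lifts along `p`. -/
theorem exists_red_of_subsingleton_T2 (P : Algebra.Presentation k B ι σ) (hps : Function.Surjective p.toAlgHom)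
    (hp : maximalIdeal A' * RingHom.ker p.toAlgHom = ⊥)
    (hT2 : Subsingleton (CotT.T2 P (B ⊗[k] RingHom.ker p.toAlgHom))) (R : AlgDef B A) :
    ∃ R' : AlgDef B A', Nonempty (Red p R' R) := by
  obtain ⟨d⟩ := exists_obsData' P hps hp R
  refine d.exists_red hps hp ?_
  have h : (Submodule.Quotient.mk d.Ω : CotT.T2 P _) = 0 := Subsingleton.elim _ _
  exact (Submodule.Quotient.mk_eq_zero _).1 h

end Data

end DefAff

end
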