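import Groth.Agent.DefAff.Natural
import Groth.Agent.DefAff.Obs

/-!
# The obstruction class in `T²`

The cochain of a system of lifted relations has a class in `T²(B/k, B ⊗ J)` which only depends on the deformation,
vanishes exactly when it lifts, and is natural in the small surjection.
-/

noncomputable section

universe u

open CategoryTheory TensorProduct IsLocalRing

namespace DefAff

variable {k : Type u} [Field k] {B : Type u} [CommRing B] [Algebra k B]
variable {ι σ : Type u} {P : Algebra.Presentation k B ι σ}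
variable {A A' A'' : ArtFun.Art k k} {p : A' ⟶ A} {p' : A'' ⟶ A} {g : A' ⟶ A''}
variable {R R₂ : AlgDef B A}

/-- The class of obstruction data. -/
abbrev ObsData.cls (d : ObsData P p R) : CotT.T2 P (B ⊗[k] RingHom.ker p.toAlgHom) := Submodule.Quotient.mk d.Ω

variable (hps : Function.Surjective p.toAlgHom) (hp : maximalIdeal A' * RingHom.ker p.toAlgHom = ⊥)
include hps hp

theorem cls_eq_of_same (d₁ d₂ : ObsData P p R) (h : d₂.α = d₁.α) : d₁.cls = d₂.cls := by
  classical
  have hmp : Function.Surjective (mp (ι := ι) p) := MvPolynomial.map_surjective _ hps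
  let J := (RingHom.ker p.toAlgHom).map (MvPolynomial.C (σ := ι) (R := A'))
  let L := Finsupp.linearCombination (MvPolynomial ι A') d₁.F'
  have hex : ∀ s, ∃ δ : σ →₀ MvPolynomial ι A',
      (∀ t, red P (δ t) = 0) ∧ d₂.F' s - d₁.F' s - L δ ∈ J := by
    intro s
    have hmem := d₁.isLift.mem_mul_ker (F := mp p (d₂.F' s - d₁.F' s))
      (by rw [map_sub, map_sub, d₁.apply_F', ← h, d₂.apply_F', sub_self])
      (by rw [red_mp, map_sub, d₁.red_F', d₂.red_F', sub_self])
    rw [d₁.isLift.ker_eq_span (F := fun t => mp p (d₁.F' t)) d₁.apply_F'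
      (fun t => (red_mp _).trans (d₁.red_F' t))] at hmem
    obtain ⟨e, he, he'⟩ : ∃ e : σ →₀ MvPolynomial ι A, (∀ t, red P (e t) = 0) ∧
        Finsupp.linearCombination (MvPolynomial ι A) (fun t => mp p (d₁.F' t)) e = mp p (d₂.F' s - d₁.F' s) := by
      refine Submodule.mul_induction_on hmem (fun m hm g hg => ?_) fun x y ⟨a, ha, ha'⟩ ⟨b, hb, hb'⟩ => ?_
      · obtain ⟨e, rfl⟩ := Finsupp.mem_span_range_iff_exists_finsupp.1 hg
        refine ⟨m • e, fun t => ?_, by rw [map_smul, Finsupp.linearCombination_apply, smul_eq_mul]⟩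
        have : (maximalIdeal A).map MvPolynomial.C ≤ RingHom.ker (red P (A := A)) :=
          Ideal.map_le_iff_le_comap.2 fun a ha => by
            rw [Ideal.mem_comap, RingHom.mem_ker, red_C, res_eq_zero ha, map_zero]
        rw [Finsupp.smul_apply, smul_eq_mul, map_mul, RingHom.mem_ker.1 (this hm), zero_mul]
      · exact ⟨a + b, fun t => by rw [Finsupp.add_apply, map_add, ha, hb, add_zero], by rw [map_add, ha', hb']⟩
    obtain ⟨δ, rfl⟩ := Finsupp.mapRange_surjective (mp (ι := ι) p) (map_zero _) hmp e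
    refine ⟨δ, fun t => ?_, mp_eq_zero_iff.1 ?_⟩
    · rw [← red_mp (p := p), ← Finsupp.mapRange_apply (f := mp p) (hf := map_zero _)]
      exact he t
    · rw [map_sub, mp_linearCombination (F := fun t => mp p (d₁.F' t)) fun _ => rfl, he', sub_self]
  choose δ hδ hδJ using hex
  let φ : CotT.L1 P →ₗ[B] B ⊗[k] RingHom.ker p.toAlgHom :=
    (CotT.L1basis P).constr B fun s => ev P p (d₂.F' s - d₁.F' s - L (δ s))
  refine ((Submodule.Quotient.eq _).2 (LinearMap.mem_range.2 ⟨φ, ?_⟩)).symm
  refine CotTLib.L2_ext fun x => ?_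
  obtain ⟨c, hc, hcJ⟩ := exists_relation hps d₂.isLift d₂.apply_F' d₂.red_F' x
  let c' : σ →₀ MvPolynomial ι A' := c + c.sum fun s a => a • δ s
  have hc' : c'.mapRange (red P) (map_zero _) = (x : CotT.relMod P) := by
    refine Finsupp.ext fun t => ?_
    rw [← hc, Finsupp.mapRange_apply, Finsupp.mapRange_apply, Finsupp.add_apply, map_add, add_eq_left,
      Finsupp.sum, Finsupp.finsetSum_apply, map_sum]
    exact Finset.sum_eq_zero fun s _ => by rw [Finsupp.smul_apply, smul_eq_mul, map_mul, hδ, mul_zero]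
  have hsum : Finsupp.linearCombination (MvPolynomial ι A') d₂.F' c =
      L c' + c.sum fun s a => a * (d₂.F' s - d₁.F' s - L (δ s)) := by
    simp only [c', map_add, map_finsuppSum, map_smul]
    simp only [L, Finsupp.linearCombination_apply, Finsupp.sum, smul_eq_mul]
    rw [← Finset.sum_add_distrib, ← Finset.sum_add_distrib]
    refine Finset.sum_congr rfl fun s _ => ?_
    ring
  have hHJ : (c.sum fun s a => a * (d₂.F' s - d₁.F' s - L (δ s))) ∈ J :=
    Ideal.sum_mem _ fun s _ => Ideal.mul_mem_left _ _ (hδJ s)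
  have hc'J : L c' ∈ J := by
    rw [show L c' = Finsupp.linearCombination (MvPolynomial ι A') d₂.F' c -
      c.sum fun s a => a * (d₂.F' s - d₁.F' s - L (δ s)) by rw [hsum, add_sub_cancel_right]]
    exact sub_mem hcJ hHJ
  have hphi : φ (CotTLib.mk1 P (c.mapRange (red P) (map_zero _))) =
      ev P p (c.sum fun s a => a * (d₂.F' s - d₁.F' s - L (δ s))) := by
    conv_lhs => rw [← Finsupp.sum_single (c.mapRange (red P) (map_zero _)),
      Finsupp.sum_mapRange_index (by intro s; exact Finsupp.single_zero s), map_finsuppSum, map_finsuppSum]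
    rw [map_finsuppSum]
    exact Finsupp.sum_congr fun s _ => by
      rw [CotTLib.mk1_single, map_smul, ev_mul hp (hδJ s), Module.Basis.constr_basis]
  rw [CotT.d2Star_apply, LinearMap.comp_apply, LinearMap.sub_apply, CotTLib.d2_mk2, ← hc, hphi,
    d₁.hΩ x c' hc' hc'J, d₂.hΩ x c hc hcJ, hsum, map_add, add_sub_cancel_left]

/-- The class only depends on the deformation. -/
theorem cls_eq (d₁ : ObsData P p R) (d₂ : ObsData P p R₂) (e : R ≃+* R₂)
    (he : ∀ a, e (algebraMap A R a) = algebraMap A R₂ a) (hproj : ∀ x, R₂.proj (e x) = R.proj x) :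
    d₁.cls = d₂.cls := by
  classical
  have hmp : Function.Surjective (mp (ι := ι) p) := MvPolynomial.map_surjective _ hps
  -- a change of variables carrying `d₁.α` to `d₂.α`
  have hH : ∀ i, ∃ H : MvPolynomial ι A', red P H = 0 ∧
      d₂.α (mp p H) = e (d₁.α (MvPolynomial.X i)) - d₂.α (MvPolynomial.X i) := by
    intro i
    have h0 : R₂.proj (e (d₁.α (MvPolynomial.X i)) - d₂.α (MvPolynomial.X i)) = 0 := by
      rw [map_sub, hproj, d₁.isLift, d₂.isLift, sub_self]
    obtain ⟨H, hH, hH'⟩ := d₂.isLift.exists_map_eq _ (R₂.proj_eq_zero_iff.1 h0)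
    obtain ⟨H', rfl⟩ := hmp H
    have : (maximalIdeal A).map MvPolynomial.C ≤ RingHom.ker (red P (A := A)) :=
      Ideal.map_le_iff_le_comap.2 fun a ha => by
        rw [Ideal.mem_comap, RingHom.mem_ker, red_C, res_eq_zero ha, map_zero]
    exact ⟨H', (red_mp H').symm.trans (this hH), hH'⟩
  choose H hH0 hH' using hH
  let τ : MvPolynomial ι A' →ₐ[A'] MvPolynomial ι A' := MvPolynomial.aeval fun i => MvPolynomial.X i + H i
  have hτ : ∀ G, d₂.α (mp p (τ G)) = e (d₁.α (mp p G)) := fun G =>
    RingHom.congr_fun (MvPolynomial.ringHom_ext (f := d₂.α.toRingHom.comp ((mp p).comp τ.toRingHom))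
      (g := e.toRingHom.comp (d₁.α.toRingHom.comp (mp p)))
      (fun a => by simp [τ, he, ← MvPolynomial.algebraMap_eq])
      (fun i => by simp [τ, hH'])) G
  have hτred : ∀ G, red P (τ G) = red P G := fun G =>
    RingHom.congr_fun (MvPolynomial.ringHom_ext (f := (red P).comp τ.toRingHom) (g := red P)
      (fun a => by simp [τ, ← MvPolynomial.algebraMap_eq]) (fun i => by simp [τ, hH0])) G
  have hτJ : ∀ G ∈ (RingHom.ker p.toAlgHom).map (MvPolynomial.C (σ := ι)),
      τ G ∈ (RingHom.ker p.toAlgHom).map MvPolynomial.C ∧ ev P p (τ G) = ev P p G := by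
    intro G hG
    suffices h : ∀ c : MvPolynomial ι A', τ (c * G) ∈ (RingHom.ker p.toAlgHom).map MvPolynomial.C ∧
        ev P p (τ (c * G)) = ev P p (c * G) by simpa using h 1
    refine Submodule.span_induction ?_ (fun c => by simp) (fun x y _ _ hx hy c => ?_) (fun a x _ hx c => ?_) hG
    · rintro _ ⟨j, hj, rfl⟩ c
      rw [map_mul, ← MvPolynomial.algebraMap_eq, τ.commutes, MvPolynomial.algebraMap_eq, mul_comm, mul_comm c]
      refine ⟨Ideal.mul_mem_right _ _ (Ideal.mem_map_of_mem _ hj), ?_⟩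
      rw [ev_C_mul hp ⟨j, hj⟩, ev_C_mul hp ⟨j, hj⟩, hτred]
    · rw [mul_add, map_add, map_add, map_add, (hx c).2, (hy c).2]
      exact ⟨add_mem (hx c).1 (hy c).1, rfl⟩
    · rw [smul_eq_mul, ← mul_assoc]; exact hx _
  have hF : ∀ s, d₂.α (mp p (τ (d₁.F' s))) = 0 := fun s => by rw [hτ, d₁.apply_F', map_zero]
  have hFr : ∀ s, red P (τ (d₁.F' s)) = CotT.rel P s := fun s => (hτred _).trans (d₁.red_F' s)
  obtain ⟨d, hdα, hdF⟩ := exists_obsData hps hp d₂.isLift hF hFr
  refine Eq.trans ?_ (cls_eq_of_same hps hp d d₂ hdα.symm)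
  refine congrArg _ (CotTLib.L2_ext fun x => ?_)
  obtain ⟨c, hc, hcJ⟩ := exists_relation hps d₁.isLift d₁.apply_F' d₁.red_F' x
  have hc' : (c.mapRange τ (map_zero _)).mapRange (red P) (map_zero _) = (x : CotT.relMod P) := by
    refine Finsupp.ext fun t => ?_
    rw [← hc, Finsupp.mapRange_apply, Finsupp.mapRange_apply, Finsupp.mapRange_apply, hτred]
  have hL : Finsupp.linearCombination (MvPolynomial ι A') d.F' (c.mapRange τ (map_zero _)) =
      τ (Finsupp.linearCombination (MvPolynomial ι A') d₁.F' c) := by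
    simp only [hdF, Finsupp.linearCombination_apply]
    rw [map_finsuppSum, Finsupp.sum_mapRange_index (by intro s; exact zero_smul _ _)]
    exact Finsupp.sum_congr fun s _ => (map_mul τ _ _).symm
  rw [d₁.hΩ x c hc hcJ, d.hΩ x _ hc' (hL ▸ (hτJ _ hcJ).1), hL, (hτJ _ hcJ).2]

/-- The class vanishes exactly when the deformation lifts. -/
theorem cls_eq_zero_iff (d : ObsData P p R) : d.cls = 0 ↔ ∃ R' : AlgDef B A', Nonempty (Red p R' R) := by
  refine ⟨fun h => d.exists_red hps hp ((Submodule.Quotient.mk_eq_zero _).1 h), fun ⟨R', ⟨r⟩⟩ => ?_⟩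
  obtain ⟨β, hβ⟩ := exists_isLift (P := P) R'
  let α : MvPolynomial ι A →ₐ[A] R := MvPolynomial.aeval fun i => r.q (β (MvPolynomial.X i))
  have hα : IsLift P R α := isLift_of_X fun i => by
    rw [MvPolynomial.aeval_X, r.proj_q, hβ, red_X]
    exact (P.algebraMap_apply _).trans (MvPolynomial.aeval_X _ i)
  have hαβ : ∀ G, α (mp p G) = r.q (β G) := fun G =>
    RingHom.congr_fun (MvPolynomial.ringHom_ext (f := α.toRingHom.comp (mp p)) (g := r.q.comp β.toRingHom)
      (fun a => by simp [α, ← MvPolynomial.algebraMap_eq, r.q_algebraMap]) (fun i => by simp [α])) G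
  choose F' hF hFr using fun s => hβ.exists_ker_lift (CotT.algebraMap_rel P s)
  obtain ⟨d', -, hdF⟩ := exists_obsData hps hp hα (F' := F') (fun s => by rw [hαβ, hF, map_zero]) hFr
  rw [cls_eq hps hp d d' (RingEquiv.refl _) (fun _ => rfl) fun _ => rfl]
  refine (Submodule.Quotient.mk_eq_zero _).2 ⟨0, ?_⟩
  rw [map_zero]
  refine CotTLib.L2_ext fun x => ?_
  obtain ⟨c, hc, hcJ⟩ := exists_relation hps d'.isLift d'.apply_F' d'.red_F' x
  have h0 : β (Finsupp.linearCombination (MvPolynomial ι A') d'.F' c) = 0 := by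
    rw [hdF, Finsupp.linearCombination_apply, map_finsuppSum]
    exact Finset.sum_eq_zero fun s _ => by
      change β (_ * F' s) = 0
      rw [map_mul, hF, mul_zero]
  rw [LinearMap.zero_apply, d'.hΩ x c hc hcJ]
  refine (theta_injective hp (R' := R') ?_).symm
  rw [map_zero]
  refine Eq.trans ?_ h0
  generalize Finsupp.linearCombination (MvPolynomial ι A') d'.F' c = G at hcJ ⊢
  suffices h : ∀ a : MvPolynomial ι A', theta hp R' (ev P p (a * G)) = β (a * G) by simpa using h 1
  refine Submodule.span_induction ?_ (fun a => by simp) (fun x y _ _ hx hy a => ?_) (fun b x _ hx a => ?_) hcJ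
  · rintro _ ⟨j, hj, rfl⟩ a
    rw [mul_comm, ev_C_mul hp ⟨j, hj⟩, ← hβ, theta_tmul, map_mul, ← MvPolynomial.algebraMap_eq, β.commutes]
  · simp only [mul_add, map_add, hx a, hy a]
  · rw [smul_eq_mul, ← mul_assoc]; exact hx _

/-- Naturality in the small surjection. -/
theorem cls_push (w : g ≫ p' = p) (hp's : Function.Surjective p'.toAlgHom)
    (hp' : maximalIdeal A'' * RingHom.ker p'.toAlgHom = ⊥)
    (d : ObsData P p R) (d' : ObsData P p' R) :
    d'.cls = CotT.T2map P (coefMap B w) d.cls := by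
  classical
  let γ : MvPolynomial ι A' →+* MvPolynomial ι A'' := MvPolynomial.map g.toAlgHom.toRingHom
  have hγmp : ∀ G, mp p' (γ G) = mp p G := fun G => by
    rw [← w]
    exact MvPolynomial.map_map _ _ _
  have hγred : ∀ G, red P (γ G) = red P G := fun G => red_map G
  have hγJ : ∀ G ∈ (RingHom.ker p.toAlgHom).map (MvPolynomial.C (σ := ι)),
      γ G ∈ (RingHom.ker p'.toAlgHom).map MvPolynomial.C ∧ ev P p' (γ G) = coefMap B w (ev P p G) := by
    intro G hG
    suffices h : ∀ c : MvPolynomial ι A', γ (c * G) ∈ (RingHom.ker p'.toAlgHom).map MvPolynomial.C ∧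
        ev P p' (γ (c * G)) = coefMap B w (ev P p (c * G)) by simpa using h 1
    refine Submodule.span_induction ?_ (fun c => by simp) (fun x y _ _ hx hy c => ?_) (fun a x _ hx c => ?_) hG
    · rintro _ ⟨j, hj, rfl⟩ c
      let j' := kerMap p p' g w ⟨j, hj⟩
      rw [mul_comm, map_mul, show γ (MvPolynomial.C j) = MvPolynomial.C (j' : A'') from MvPolynomial.map_C _ _]
      refine ⟨Ideal.mul_mem_right _ _ (Ideal.mem_map_of_mem _ j'.2), ?_⟩
      rw [ev_C_mul hp' j', ev_C_mul hp ⟨j, hj⟩, hγred]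
      rfl
    · rw [mul_add, map_add, map_add, map_add, map_add, (hx c).2, (hy c).2]
      exact ⟨add_mem (hx c).1 (hy c).1, rfl⟩
    · rw [smul_eq_mul, ← mul_assoc]; exact hx _
  obtain ⟨d₀, hdα, hdF⟩ := exists_obsData hp's hp' d.isLift (F' := fun s => γ (d.F' s))
    (fun s => by rw [hγmp, d.apply_F']) fun s => (hγred _).trans (d.red_F' s)
  rw [cls_eq hp's hp' d' d₀ (RingEquiv.refl _) (fun _ => rfl) fun _ => rfl]
  refine congrArg Submodule.Quotient.mk (CotTLib.L2_ext fun x => ?_)
  obtain ⟨c, hc, hcJ⟩ := exists_relation hps d.isLift d.apply_F' d.red_F' x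
  have hc' : (c.mapRange γ (map_zero _)).mapRange (red P) (map_zero _) = (x : CotT.relMod P) := by
    refine Finsupp.ext fun t => ?_
    rw [← hc, Finsupp.mapRange_apply, Finsupp.mapRange_apply, Finsupp.mapRange_apply, hγred]
  have hL : Finsupp.linearCombination (MvPolynomial ι A'') d₀.F' (c.mapRange γ (map_zero _)) =
      γ (Finsupp.linearCombination (MvPolynomial ι A') d.F' c) := by
    simp only [hdF, Finsupp.linearCombination_apply]
    rw [map_finsuppSum, Finsupp.sum_mapRange_index (by intro s; exact zero_smul _ _)]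
    exact Finsupp.sum_congr fun s _ => (map_mul γ _ _).symm
  change d₀.Ω (CotTLib.mk2 P x) = coefMap B w (d.Ω (CotTLib.mk2 P x))
  rw [d₀.hΩ x _ hc' (hL ▸ (hγJ _ hcJ).1), hL, (hγJ _ hcJ).2, d.hΩ x c hc hcJ]

end DefAff

end
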