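import Groth.Prelude.Def_ArtFun3
import Groth.Agent.DefAff.Deform
import Groth.Agent.DefAff.Obs
import Groth.Agent.CotTLib.Exalcom

/-!
# Rigidity and unobstructedness of affine deformations
-/

noncomputable section

universe u

open CategoryTheory CategoryTheory.Limits AlgebraicGeometry IsLocalRing TensorProduct

namespace DefAff

variable {k : Type u} [Field k] {B : Type u} [CommRing B] [Algebra k B]
variable {ι σ : Type u} {P : Algebra.Presentation k B ι σ}

lemma subsingleton_T1_of_basis {M n : Type u} [AddCommGroup M] [Module B M] [Finite n]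
    (b : Module.Basis n B M) (h : Subsingleton (CotT.T1 P B)) : Subsingleton (CotT.T1 P M) := by
  cases nonempty_fintype n
  refine subsingleton_of_forall_eq 0 fun x => ?_
  obtain ⟨φ, rfl⟩ := Submodule.Quotient.mk_surjective _ x
  have hi : ∀ i, ∃ ψ, CotT.d1Star P B ψ = b.coord i ∘ₗ (φ : CotT.L1 P →ₗ[B] M) := by
    intro i
    have hc : b.coord i ∘ₗ (φ : CotT.L1 P →ₗ[B] M) ∈ CotT.cocycles1 P B := by
      rw [LinearMap.mem_ker, CotT.d2Star_apply, LinearMap.comp_assoc,
        show (φ : CotT.L1 P →ₗ[B] M) ∘ₗ CotT.d2 P = 0 from φ.2, LinearMap.comp_zero]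
    have h0 : (Submodule.Quotient.mk ⟨_, hc⟩ : CotT.T1 P B) = 0 := Subsingleton.elim _ _
    exact (Submodule.Quotient.mk_eq_zero _).1 h0
  choose ψ hψ using hi
  refine (Submodule.Quotient.mk_eq_zero _).2 ⟨∑ i, (ψ i).smulRight (b i), LinearMap.ext fun z => ?_⟩
  rw [CotT.d1Star_apply, LinearMap.comp_apply, LinearMap.sum_apply]
  simp only [LinearMap.smulRight_apply]
  rw [Submodule.subtype_apply]
  conv_rhs => rw [← b.sum_repr ((φ : CotT.L1 P →ₗ[B] M) z)]
  refine Finset.sum_congr rfl fun i _ => ?_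
  exact congrArg (· • b i) (LinearMap.congr_fun (hψ i) z)

lemma subsingleton_T2_of_basis {M n : Type u} [AddCommGroup M] [Module B M] [Finite n]
    (b : Module.Basis n B M) (h : Subsingleton (CotT.T2 P B)) : Subsingleton (CotT.T2 P M) := by
  cases nonempty_fintype n
  refine subsingleton_of_forall_eq 0 fun x => ?_
  obtain ⟨ω, rfl⟩ := Submodule.Quotient.mk_surjective _ x
  have hi : ∀ i, ∃ φ, CotT.d2Star P B φ = b.coord i ∘ₗ ω := fun i => by
    have h0 : (Submodule.Quotient.mk (b.coord i ∘ₗ ω) : CotT.T2 P B) = 0 := Subsingleton.elim _ _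
    exact (Submodule.Quotient.mk_eq_zero _).1 h0
  choose φ hφ using hi
  refine (Submodule.Quotient.mk_eq_zero _).2 ⟨∑ i, (φ i).smulRight (b i), LinearMap.ext fun z => ?_⟩
  rw [CotT.d2Star_apply, LinearMap.comp_apply, LinearMap.sum_apply]
  simp only [LinearMap.smulRight_apply]
  conv_rhs => rw [← b.sum_repr (ω z)]
  refine Finset.sum_congr rfl fun i _ => ?_
  exact congrArg (· • b i) (LinearMap.congr_fun (hφ i) z)

variable {A A' : ArtFun.Art k k} {p : A' ⟶ A}

/-- The kernel of a small surjection is finite-dimensional. -/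
lemma finite_ker (hp : maximalIdeal A' * RingHom.ker p.toAlgHom = ⊥) :
    Module.Finite k (RingHom.ker p.toAlgHom) := by
  obtain ⟨s, hs⟩ := (isNoetherianRing_iff_ideal_fg A').1 inferInstance (RingHom.ker p.toAlgHom)
  refine Module.Finite.of_fg (N := ((RingHom.ker p.toAlgHom).restrictScalars k)) ⟨s, le_antisymm
    (Submodule.span_le.2 fun x hx => hs.le (Submodule.subset_span hx)) fun x hx => ?_⟩
  refine Submodule.span_induction (p := fun x _ => x ∈ Submodule.span k (s : Set A'))
    (fun x hx => Submodule.subset_span hx) (zero_mem _) (fun _ _ _ _ ha hb => add_mem ha hb) ?_ (hs.ge hx)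
  intro a y hy hy'
  rw [smul_eq_mul, ker_mul_eq hp ⟨y, hs.le hy⟩ a, ← Algebra.smul_def]
  exact Submodule.smul_mem _ _ hy'

/-- A `B`-basis of `B ⊗ J`. -/
lemma exists_basis (hp : maximalIdeal A' * RingHom.ker p.toAlgHom = ⊥) :
    ∃ (n : Type u) (_ : Finite n), Nonempty (Module.Basis n B (B ⊗[k] RingHom.ker p.toAlgHom)) := by
  haveI := finite_ker hp
  let b := Module.Free.chooseBasis k (RingHom.ker p.toAlgHom)
  exact ⟨_, inferInstance, ⟨Algebra.TensorProduct.basis B b⟩⟩

variable (B) in
/-- `T² = 0` gives lifts of deformations. -/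
theorem surjective_defFunctor_map (P : Algebra.Presentation k B ι σ) (hT2 : Subsingleton (CotT.T2 P B))
    (hp : ArtFun.Art.IsSemismallExt p) :
    Function.Surjective ((ArtFun.defFunctor (Λ := k) (Spec (CommRingCat.of B))
      (Spec.map (CommRingCat.ofHom (algebraMap k B)))).map p) := by
  intro y
  induction y using Quotient.inductionOn with | h ξ => ?_
  obtain ⟨R, ⟨v⟩⟩ := exists_iso_toSch ξ
  obtain ⟨n, _, ⟨b⟩⟩ := exists_basis (B := B) hp.2
  obtain ⟨R', ⟨r⟩⟩ := exists_red_of_subsingleton_T2 P hp.1 hp.2 (subsingleton_T2_of_basis b hT2) R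
  obtain ⟨e, -⟩ := exists_iso_of_red hp.1 r
  exact ⟨R'.toSch.cl, Quotient.sound ⟨e.trans v.symm⟩⟩

/-- If every extension of `B` by `B` is trivial, then `T¹ = 0`. -/
theorem subsingleton_T1_of_isTrivial (P : Algebra.Presentation k B ι σ) (hT : ∀ E : Exal.Ext k B B, E.IsTrivial) :
    Subsingleton (CotT.T1 P B) := by
  refine subsingleton_of_forall_eq 0 fun x => ?_
  obtain ⟨φ, rfl⟩ := Submodule.Quotient.mk_surjective _ x
  obtain ⟨X, hX⟩ := CotTLib.exists_ext φ
  obtain ⟨s, hs⟩ := hT X
  refine CotTLib.class_unique hX ⟨s.comp (IsScalarTower.toAlgHom k P.toExtension.Ring B), 0,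
    fun r => hs _, fun f => ?_, rfl⟩
  change X.incl ((0 : CotT.L1 P →ₗ[B] B) _) = s (algebraMap P.toExtension.Ring B (CotT.jmap P f))
  rw [LinearMap.zero_apply, CotT.algebraMap_jmap, map_zero, map_zero]

/-- Any two deformations are isomorphic if `T¹ = 0`. -/
theorem nonempty_iso_of_subsingleton_T1 (P : Algebra.Presentation k B ι σ) (h : Subsingleton (CotT.T1 P B))
    (N : ℕ) : ∀ {A : ArtFun.Art k k}, maximalIdeal A ^ (N + 1) = ⊥ →
      ∀ ξ η : ArtFun.DefSch (Spec (CommRingCat.of B)) (Spec.map (CommRingCat.ofHom (algebraMap k B))) A,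
        Nonempty (ξ.Iso η) := by
  induction N with
  | zero =>
    intro A hA ξ η
    have hinj : Function.Injective A.res := by
      rw [injective_iff_map_eq_zero]
      intro a ha
      have := (ArtFun.Art.mem_maximalIdeal_iff A a).2 ha
      rwa [← pow_one (maximalIdeal A), hA, Ideal.mem_bot] at this
    haveI : IsIso (ArtFun.Art.specRes A) := by
      haveI : IsIso (CommRingCat.ofHom A.res.toRingHom) :=
        (RingEquiv.ofBijective A.res.toRingHom ⟨hinj, A.res_surjective⟩).toCommRingCatIso.isIso_hom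
      infer_instance
    have hi : ∀ ζ : ArtFun.DefSch (Spec (CommRingCat.of B)) (Spec.map (CommRingCat.ofHom (algebraMap k B))) A,
        IsIso ζ.i := fun ζ =>
      MorphismProperty.of_isPullback (P := MorphismProperty.isomorphisms Scheme) ζ.isPullback.flip
        (MorphismProperty.isomorphisms.infer_property _)
    haveI := hi ξ
    haveI := hi η
    refine ⟨⟨(asIso ξ.i).symm ≪≫ asIso η.i, ?_, ?_⟩⟩
    · simp [η.i_f, ← ξ.i_f]
    · simp
  | succ N ih =>
    intro A hA ξ η
    let J : Ideal A := maximalIdeal A ^ (N + 1)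
    have hJ : J ≤ maximalIdeal A := Ideal.pow_le_self (Nat.succ_ne_zero N)
    let p := ArtFun.Art.quotMk A J hJ
    have hker : RingHom.ker p.toAlgHom = J := Ideal.mk_ker
    have hp : ArtFun.Art.IsSemismallExt p :=
      ⟨ArtFun.Art.quotMk_surjective A J hJ, by rw [hker, ← pow_succ']; exact hA⟩
    have hC : maximalIdeal (ArtFun.Art.quot A J hJ) ^ (N + 1) = ⊥ := by
      have hle : maximalIdeal (ArtFun.Art.quot A J hJ) ≤ (maximalIdeal A).map p.toAlgHom := fun c hc => by
        obtain ⟨a, rfl⟩ := hp.1 c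
        refine Ideal.mem_map_of_mem _ ((ArtFun.Art.mem_maximalIdeal_iff A a).2 ?_)
        rw [← ArtFun.Art.res_app p]
        exact res_eq_zero hc
      refine le_bot_iff.1 ((Ideal.pow_right_mono hle _).trans (le_of_eq ?_))
      rw [← Ideal.map_pow]
      exact Ideal.map_quotient_self J
    obtain ⟨e⟩ := ih hC (ξ.baseChange p) (η.baseChange p)
    obtain ⟨n, _, ⟨b⟩⟩ := exists_basis (B := B) hp.2
    haveI := subsingleton_T1_of_basis (P := P) b h
    obtain ⟨E⟩ := nonempty_equiv_extensions P hp (η.baseChange p) ⟨η, ⟨ArtFun.DefSch.Iso.refl _⟩⟩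
    have key := Quot.eqvGen_exact (E.injective (Subsingleton.elim (E (Quot.mk _ ⟨ξ, e⟩))
      (E (Quot.mk _ ⟨η, ArtFun.DefSch.Iso.refl _⟩))))
    have aux : ∀ a b : (Σ 𝒳' : ArtFun.DefSch (Spec (CommRingCat.of B))
        (Spec.map (CommRingCat.ofHom (algebraMap k B))) A, (𝒳'.baseChange p).Iso (η.baseChange p)),
        Relation.EqvGen (fun a b => ∃ ψ : a.1.Iso b.1, ((ψ.baseChange p).trans b.2).iso = a.2.iso) a b →
          Nonempty (a.1.Iso b.1) := by
      intro a b hab
      induction hab with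
      | rel _ _ h => exact ⟨h.choose⟩
      | refl x => exact ⟨ArtFun.DefSch.Iso.refl _⟩
      | symm _ _ _ h => exact ⟨h.some.symm⟩
      | trans _ _ _ _ _ h h' => exact ⟨h.some.trans h'.some⟩
    exact aux _ _ key

variable (B) in
/-- If every extension of `B` by `B` is trivial, every deformation is trivial. -/
theorem nonempty_iso_trivial (P : Algebra.Presentation k B ι σ) (hT : ∀ E : Exal.Ext k B B, E.IsTrivial)
    (hx : Flat (Spec.map (CommRingCat.ofHom (algebraMap k B))))
    (ξ : ArtFun.DefSch (Spec (CommRingCat.of B)) (Spec.map (CommRingCat.ofHom (algebraMap k B))) A) :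
    Nonempty (ξ.Iso (ArtFun.DefSch.trivial (Spec (CommRingCat.of B))
      (Spec.map (CommRingCat.ofHom (algebraMap k B))) hx A)) := by
  obtain ⟨N, hN⟩ := isNilpotent_maximalIdeal A
  exact nonempty_iso_of_subsingleton_T1 P (subsingleton_T1_of_isTrivial P hT) N
    (by rw [pow_succ, hN]; exact Ideal.bot_mul _) ξ _

end DefAff

end
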