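import Groth.Agent.DefAff.Natural

/-!
# The tangent space of the deformation functor of an affine scheme is `T¹`
-/

noncomputable section

universe u

open CategoryTheory CategoryTheory.Limits AlgebraicGeometry IsLocalRing TensorProduct

namespace DefAff

variable {k : Type u} [Field k] {B : Type u} [CommRing B] [Algebra k B]
variable {ι σ : Type u} (P : Algebra.Presentation k B ι σ)
variable {A A' : ArtFun.Art k k}

local notation "Fd" => ArtFun.defFunctor (Λ := k) (Spec (CommRingCat.of B)) (Spec.map (CommRingCat.ofHom (algebraMap k B)))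

/-- The maximal ideal squares to zero. -/
abbrev Sq (A : ArtFun.Art k k) : Prop := maximalIdeal A * RingHom.ker (ArtFun.Art.toBase A).toAlgHom = ⊥

/-- `g` respects the augmentations. -/
lemma comp_toBase (g : A ⟶ A') : g ≫ ArtFun.Art.toBase A' = ArtFun.Art.toBase A := ArtFun.Art.eq_toBase _

lemma sq_dual : Sq (ArtFun.Art.dual k k) := le_bot_iff.1 (Ideal.mul_le.2 fun _ ha _ hb =>
  (dual_mul_eq_zero (res_eq_zero ha) (RingHom.mem_ker.1 hb) : _))

lemma sq_dual2 : Sq (ArtFun.Art.dual2 k k) := by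
  refine le_bot_iff.1 (Ideal.mul_le.2 fun a ha b hb => ?_)
  have h : ∀ a b : TrivSqZeroExt k (k × k), a.fst = 0 → b.fst = 0 → a * b = 0 := fun a b ha hb =>
    TrivSqZeroExt.ext (by simp [ha, hb]) (by simp [ha, hb])
  exact (h a b (res_eq_zero ha) (RingHom.mem_ker.1 hb) : _)

/-- The class of a deformation over a square-zero object. -/
def IsSchCls (hA : Sq A) (ξ : ArtFun.DefSch (Spec (CommRingCat.of B)) (Spec.map (CommRingCat.ofHom (algebraMap k B))) A)
    (x : CotT.T1 P (B ⊗[k] RingHom.ker (ArtFun.Art.toBase A).toAlgHom)) : Prop :=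
  ∃ (R : AlgDef B A), Nonempty (ξ.Iso R.toSch) ∧
    IsClassOf hA P (toBaseRed (trivialDef B A)) (trivLift P A) (toBaseRed R) x

variable {P}

/-- Isomorphic algebraic deformations from isomorphic schemes. -/
lemma exists_redEquiv_of_iso {R R' : AlgDef B A} (w : R.toSch.Iso R'.toSch) :
    Nonempty (RedEquiv (toBaseRed R) (toBaseRed R')) := by
  let i : CommRingCat.of R' ≅ CommRingCat.of R :=
    { hom := Spec.preimage w.iso.hom
      inv := Spec.preimage w.iso.inv
      hom_inv_id := by rw [← Spec.preimage_comp]; simp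
      inv_hom_id := by rw [← Spec.preimage_comp]; simp }
  have hi : Spec.map i.hom = w.iso.hom := Spec.map_preimage _
  have h1 : CommRingCat.ofHom (algebraMap A R') ≫ i.hom = CommRingCat.ofHom (algebraMap A R) :=
    Spec.map_injective (by rw [Spec.map_comp, hi]; exact w.hom_f)
  have h2 : i.hom ≫ CommRingCat.ofHom R.proj = CommRingCat.ofHom R'.proj :=
    Spec.map_injective (by rw [Spec.map_comp, hi]; exact w.i_hom)
  refine ⟨⟨i.symm.commRingCatIsoToRingEquiv, fun a => ?_, fun y => ?_⟩⟩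
  · change i.inv (algebraMap A R a) = _
    rw [show algebraMap A R a = i.hom (algebraMap A R' a) from
      (congrArg (fun χ : CommRingCat.of A ⟶ CommRingCat.of R => χ.hom a) h1).symm]
    exact Iso.hom_inv_id_apply i _
  · change R'.proj (i.inv y) = R.proj y
    refine (congrArg (fun χ : CommRingCat.of R' ⟶ CommRingCat.of B => χ.hom (i.inv y)) h2).symm.trans ?_
    exact congrArg R.proj (Iso.inv_hom_id_apply i y)

/-- Isomorphic schemes from isomorphic algebraic deformations. -/
lemma exists_iso_of_redEquiv {C : ArtFun.Art k k} {p : A ⟶ C} {Rc : AlgDef B C} {R R' : AlgDef B A}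
    {r : Red p R Rc} {r' : Red p R' Rc} (e : RedEquiv r r') : Nonempty (R.toSch.Iso R'.toSch) := by
  let i : CommRingCat.of R' ≅ CommRingCat.of R := e.e.symm.toCommRingCatIso
  refine ⟨⟨Scheme.Spec.mapIso i.op, ?_, ?_⟩⟩
  · change Spec.map i.hom ≫ Spec.map (CommRingCat.ofHom (algebraMap A R')) = _
    rw [← Spec.map_comp]
    exact congrArg _ (CommRingCat.hom_ext (RingHom.ext fun a => e.e.symm_apply_eq.2 (e.e_algebraMap a).symm))
  · change Spec.map (CommRingCat.ofHom R.proj) ≫ Spec.map i.hom = _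
    rw [← Spec.map_comp]
    refine congrArg _ (CommRingCat.hom_ext (RingHom.ext fun y => ?_))
    change R.proj (e.e.symm y) = R'.proj y
    rw [← r.proj_q, ← e.q_e, e.e.apply_symm_apply, r'.proj_q]

variable {hA : Sq A} {hA' : Sq A'}

lemma exists_isSchCls (hA : Sq A)
    (ξ : ArtFun.DefSch (Spec (CommRingCat.of B)) (Spec.map (CommRingCat.ofHom (algebraMap k B))) A) :
    ∃ x, IsSchCls P hA ξ x := by
  obtain ⟨R, hR⟩ := exists_iso_toSch ξ
  obtain ⟨x, hx⟩ := exists_isClassOf (P := P) (r₀ := toBaseRed (trivialDef B A)) (α₀ := trivLift P A) hA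
    (toBaseRed R) isLift_trivLift
  exact ⟨x, R, hR, hx⟩

lemma IsSchCls.unique {ξ η : ArtFun.DefSch (Spec (CommRingCat.of B)) (Spec.map (CommRingCat.ofHom (algebraMap k B))) A}
    {x y} (hx : IsSchCls P hA ξ x) (hy : IsSchCls P hA η y) (e : ξ.Iso η) : x = y := by
  obtain ⟨R, ⟨v⟩, hx⟩ := hx
  obtain ⟨R', ⟨v'⟩, hy⟩ := hy
  obtain ⟨e'⟩ := exists_redEquiv_of_iso (v.symm.trans (e.trans v'))
  exact isClassOf_unique isLift_trivLift (isClassOf_of_equiv e' hx) hy

lemma IsSchCls.map {ξ : ArtFun.DefSch (Spec (CommRingCat.of B)) (Spec.map (CommRingCat.ofHom (algebraMap k B))) A}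
    {x} (hx : IsSchCls P hA ξ x) (hA' : Sq A') (g : A ⟶ A') :
    IsSchCls P hA' (ξ.baseChange g) (CotT.T1map P (coefMap B (comp_toBase g)) x) := by
  obtain ⟨R, ⟨v⟩, hx⟩ := hx
  obtain ⟨R', ⟨v'⟩⟩ := exists_iso_toSch (R.toSch.baseChange g)
  obtain ⟨o⟩ := exists_over_of_iso v'
  exact ⟨R', ⟨(v.baseChange g).trans v'⟩, hx.push hA hA' isLift_trivLift (trivOver g) (trivOver_X g)
    (trivOver g).proj_G o o.proj_G⟩

variable (P) in
/-- The class of an isomorphism class. -/
def objCls (hA : Sq A) : (Fd).obj A → CotT.T1 P (B ⊗[k] RingHom.ker (ArtFun.Art.toBase A).toAlgHom) :=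
  Quotient.lift (fun ξ => (exists_isSchCls (P := P) hA ξ).choose) fun ξ η ⟨e⟩ =>
    (exists_isSchCls hA ξ).choose_spec.unique (exists_isSchCls hA η).choose_spec e

lemma objCls_map (hA : Sq A) (hA' : Sq A') (g : A ⟶ A') (y : (Fd).obj A) :
    objCls P hA' ((Fd).map g y) = CotT.T1map P (coefMap B (comp_toBase g)) (objCls P hA y) := by
  induction y using Quotient.inductionOn with | h ξ => ?_
  exact (exists_isSchCls hA' (ξ.baseChange g)).choose_spec.unique
    ((exists_isSchCls hA ξ).choose_spec.map hA' g) (ArtFun.DefSch.Iso.refl _)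

lemma objCls_bijective (hA : Sq A) : Function.Bijective (objCls (B := B) P hA) := by
  constructor
  · intro a b h
    induction a using Quotient.inductionOn with | h ξ => ?_
    induction b using Quotient.inductionOn with | h η => ?_
    obtain ⟨R, ⟨v⟩, hx⟩ := (exists_isSchCls (P := P) hA ξ).choose_spec
    obtain ⟨R', ⟨v'⟩, hy⟩ := (exists_isSchCls (P := P) hA η).choose_spec
    have h' : (exists_isSchCls (P := P) hA ξ).choose = (exists_isSchCls (P := P) hA η).choose := h
    rw [h'] at hx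
    obtain ⟨e⟩ := nonempty_redEquiv_of_class hA isLift_trivLift hx hy
    obtain ⟨w⟩ := exists_iso_of_redEquiv e
    exact Quotient.sound ⟨v.trans (w.trans v'.symm)⟩
  · intro t
    obtain ⟨φ, rfl⟩ := Submodule.Quotient.mk_surjective _ t
    obtain ⟨R', r, hr⟩ := exists_red_of_cocycle (r₀ := toBaseRed (trivialDef B A)) hA isLift_trivLift φ
    have hx : IsClassOf hA P (toBaseRed (trivialDef B A)) (trivLift P A) (toBaseRed R')
        (Submodule.Quotient.mk φ) :=
      isClassOf_of_equiv ⟨RingEquiv.refl _, fun _ => rfl, fun y => (r.proj_q y).symm⟩ hr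
    exact ⟨R'.toSch.cl, (exists_isSchCls hA R'.toSch).choose_spec.unique ⟨R', ⟨ArtFun.DefSch.Iso.refl _⟩, hx⟩
      (ArtFun.DefSch.Iso.refl _)⟩

section T1maps

variable {M N L : Type u} [AddCommGroup M] [Module B M] [AddCommGroup N] [Module B N] [AddCommGroup L] [Module B L]

lemma T1map_comp (g : N →ₗ[B] L) (f : M →ₗ[B] N) (x : CotT.T1 P M) :
    CotT.T1map P g (CotT.T1map P f x) = CotT.T1map P (g ∘ₗ f) x := by
  obtain ⟨φ, rfl⟩ := Submodule.Quotient.mk_surjective _ x
  rfl

lemma T1map_add (f g : M →ₗ[B] N) (x : CotT.T1 P M) :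
    CotT.T1map P (f + g) x = CotT.T1map P f x + CotT.T1map P g x := by
  obtain ⟨φ, rfl⟩ := Submodule.Quotient.mk_surjective _ x
  rfl

lemma T1map_smul (b : B) (f : M →ₗ[B] N) (x : CotT.T1 P M) :
    CotT.T1map P (b • f) x = b • CotT.T1map P f x := by
  obtain ⟨φ, rfl⟩ := Submodule.Quotient.mk_surjective _ x
  rfl

end T1maps

/-- The coefficient of `ε`. -/
def sndJ : RingHom.ker (ArtFun.Art.toBase (ArtFun.Art.dual k k)).toAlgHom →ₗ[k] k where
  toFun j := TrivSqZeroExt.snd ((j : ArtFun.Art.dual k k) : DualNumber k)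
  map_add' _ _ := rfl
  map_smul' _ _ := rfl

/-- `B ⊗ (ε) → B`. -/
def coefDual : B ⊗[k] RingHom.ker (ArtFun.Art.toBase (ArtFun.Art.dual k k)).toAlgHom →ₗ[B] B :=
  (TensorProduct.AlgebraTensorModule.rid k B B).toLinearMap ∘ₗ
    TensorProduct.AlgebraTensorModule.map LinearMap.id sndJ

lemma coefDual_tmul (b : B) (j : RingHom.ker (ArtFun.Art.toBase (ArtFun.Art.dual k k)).toAlgHom) :
    coefDual (b ⊗ₜ[k] j) = TrivSqZeroExt.snd ((j : ArtFun.Art.dual k k) : DualNumber k) • b :=
  TensorProduct.AlgebraTensorModule.rid_tmul (R := k) (A := B) (sndJ j) b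

lemma coefDual_bijective : Function.Bijective (coefDual (k := k) (B := B)) := by
  let g : B →ₗ[B] B ⊗[k] RingHom.ker (ArtFun.Art.toBase (ArtFun.Art.dual k k)).toAlgHom :=
    LinearMap.toSpanSingleton B _ ((1 : B) ⊗ₜ[k] ⟨(DualNumber.eps : DualNumber k),
      RingHom.mem_ker.2 (TrivSqZeroExt.fst_inr k (1 : k) :)⟩)
  have h1 : ∀ b, coefDual (g b) = b := fun b => by
    simp only [g, LinearMap.toSpanSingleton_apply, TensorProduct.smul_tmul', smul_eq_mul, mul_one, coefDual_tmul]
    exact (congrArg (· • b) (DualNumber.snd_eps (R := k))).trans (one_smul k b)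
  have h2 : ∀ z, g (coefDual z) = z := fun z => by
    induction z using TensorProduct.induction_on with
    | zero => simp
    | tmul b j =>
      rw [coefDual_tmul]
      simp only [g, LinearMap.toSpanSingleton_apply, TensorProduct.smul_tmul', smul_eq_mul, mul_one]
      rw [TensorProduct.smul_tmul]
      exact congrArg (b ⊗ₜ[k] ·) (Subtype.ext (eq_smul_eps (k := k) (RingHom.mem_ker.1 j.2 :)).symm)
    | add a b ha hb => rw [map_add, map_add, ha, hb]
  exact ⟨fun a b h => by rw [← h2 a, ← h2 b, h], fun b => ⟨g b, h1 b⟩⟩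

variable (P) in
/-- `t_F → T¹(B/k, B)`. -/
def tangentMap (y : (Fd).obj (ArtFun.Art.dual k k)) : CotT.T1 P B :=
  CotT.T1map P coefDual (objCls P sq_dual y)

lemma tangentMap_bijective : Function.Bijective (tangentMap (k := k) (B := B) P) := by
  let e := LinearEquiv.ofBijective (coefDual (k := k) (B := B)) coefDual_bijective
  refine Function.Bijective.comp ⟨fun a b h => ?_, fun t => ⟨CotT.T1map P e.symm.toLinearMap t, ?_⟩⟩
    (objCls_bijective sq_dual)
  · have hid : ∀ z, CotT.T1map P e.symm.toLinearMap (CotT.T1map P coefDual z) = z := fun z => by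
      obtain ⟨φ, rfl⟩ := Submodule.Quotient.mk_surjective _ z
      exact congrArg Submodule.Quotient.mk (Subtype.ext (LinearMap.ext fun w => e.symm_apply_apply _))
    rw [← hid a, ← hid b, h]
  · obtain ⟨φ, rfl⟩ := Submodule.Quotient.mk_surjective _ t
    exact congrArg Submodule.Quotient.mk (Subtype.ext (LinearMap.ext fun w => e.apply_symm_apply _))

lemma coefDual_coefMap_scale (c : k) :
    coefDual ∘ₗ coefMap B (comp_toBase (ArtFun.Art.scale (Λ := k) c)) = algebraMap k B c • coefDual := by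
  refine LinearMap.ext fun z => ?_
  induction z using TensorProduct.induction_on with
  | zero => simp
  | tmul b j =>
    change coefDual (b ⊗ₜ[k] kerMap _ _ _ (comp_toBase (ArtFun.Art.scale (Λ := k) c)) j) = algebraMap k B c • coefDual (b ⊗ₜ j)
    rw [coefDual_tmul, coefDual_tmul, algebraMap_smul, smul_smul]
    rfl
  | add a b ha hb => rw [map_add, map_add, ha, hb]

lemma tangentMap_scale (c : k) (y : (Fd).obj (ArtFun.Art.dual k k)) :
    tangentMap P ((Fd).map (ArtFun.Art.scale c) y) = c • tangentMap P y := by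
  rw [tangentMap, objCls_map sq_dual sq_dual, T1map_comp, coefDual_coefMap_scale, T1map_smul, algebraMap_smul]
  rfl

lemma tangentMap_plus (z : (Fd).obj (ArtFun.Art.dual2 k k)) :
    tangentMap P ((Fd).map ArtFun.Art.plus z) =
      tangentMap P ((Fd).map ArtFun.Art.pr₁ z) + tangentMap P ((Fd).map ArtFun.Art.pr₂ z) := by
  simp only [tangentMap, objCls_map sq_dual2 sq_dual, T1map_comp]
  rw [← T1map_add]
  congr 1
  refine congrArg _ (LinearMap.ext fun w => ?_)
  induction w using TensorProduct.induction_on with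
  | zero => simp
  | tmul b j =>
    change coefDual (b ⊗ₜ[k] kerMap _ _ _ (comp_toBase (ArtFun.Art.plus (Λ := k))) j) =
      coefDual (b ⊗ₜ[k] kerMap _ _ _ (comp_toBase (ArtFun.Art.pr₁ (Λ := k))) j) +
        coefDual (b ⊗ₜ[k] kerMap _ _ _ (comp_toBase (ArtFun.Art.pr₂ (Λ := k))) j)
    rw [coefDual_tmul, coefDual_tmul, coefDual_tmul, ← add_smul]
    rfl
  | add a b ha hb => rw [map_add, map_add, ha, hb]

end DefAff

end
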