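import Groth.Agent.DefAff.ObsCls
import Groth.Agent.DefAff.Rigid
import Groth.Agent.DefAff.Tangent

/-!
# `T²` is an obstruction space for the deformations of an affine scheme
-/

noncomputable section

universe u

open CategoryTheory CategoryTheory.Limits AlgebraicGeometry IsLocalRing TensorProduct

namespace DefAff

variable {k : Type u} [Field k] {B : Type u} [CommRing B] [Algebra k B]
variable {ι σ : Type u} (P : Algebra.Presentation k B ι σ)
variable {A A' A'' : ArtFun.Art k k} {p : A' ⟶ A} {p' : A'' ⟶ A} {g : A' ⟶ A''}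

local notation "Fd" => ArtFun.defFunctor (Λ := k) (Spec (CommRingCat.of B)) (Spec.map (CommRingCat.ofHom (algebraMap k B)))

section T2maps

variable {M N L : Type u} [AddCommGroup M] [Module B M] [AddCommGroup N] [Module B N] [AddCommGroup L] [Module B L]

variable {P}

lemma T2map_comp (g : N →ₗ[B] L) (f : M →ₗ[B] N) (x : CotT.T2 P M) :
    CotT.T2map P g (CotT.T2map P f x) = CotT.T2map P (g ∘ₗ f) x := by
  obtain ⟨φ, rfl⟩ := Submodule.Quotient.mk_surjective _ x
  rfl

lemma T2map_add (f g : M →ₗ[B] N) (x : CotT.T2 P M) :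
    CotT.T2map P (f + g) x = CotT.T2map P f x + CotT.T2map P g x := by
  obtain ⟨φ, rfl⟩ := Submodule.Quotient.mk_surjective _ x
  rfl

lemma T2map_smul (b : B) (f : M →ₗ[B] N) (x : CotT.T2 P M) :
    CotT.T2map P (b • f) x = b • CotT.T2map P f x := by
  obtain ⟨φ, rfl⟩ := Submodule.Quotient.mk_surjective _ x
  rfl

lemma T2map_id (x : CotT.T2 P M) : CotT.T2map P LinearMap.id x = x := by
  obtain ⟨φ, rfl⟩ := Submodule.Quotient.mk_surjective _ x
  rfl

lemma T2map_zero (x : CotT.T2 P M) : CotT.T2map P (0 : M →ₗ[B] N) x = 0 := by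
  obtain ⟨φ, rfl⟩ := Submodule.Quotient.mk_surjective _ x
  rfl

lemma T2map_sum {α : Type*} (s : Finset α) (f : α → (M →ₗ[B] N)) (x : CotT.T2 P M) :
    CotT.T2map P (∑ i ∈ s, f i) x = ∑ i ∈ s, CotT.T2map P (f i) x := by
  classical
  induction s using Finset.induction_on with
  | empty => exact T2map_zero x
  | insert a s ha ih =>
    exact ((congrArg (fun h => CotT.T2map P h x) (Finset.sum_insert ha)).trans (T2map_add _ _ x)).trans
      ((congrArg (CotT.T2map P (f a) x + ·) ih).trans (Finset.sum_insert (f := fun i => CotT.T2map P (f i) x) ha).symm)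

variable [Module k M] [IsScalarTower k B M] [Module k N] [IsScalarTower k B N]

lemma T2map_smul_right (c : k) (f : M →ₗ[B] N) (x : CotT.T2 P M) :
    CotT.T2map P f (c • x) = c • CotT.T2map P f x :=
  (congrArg _ (algebraMap_smul B c x).symm).trans (((CotT.T2map P f).map_smul _ x).trans (algebraMap_smul B c _))

/-- `T2map`, linearly over `k`. -/
def T2mapK (f : M →ₗ[B] N) : CotT.T2 P M →ₗ[k] CotT.T2 P N where
  toFun := CotT.T2map P f
  map_add' := map_add (CotT.T2map P f)
  map_smul' c x := T2map_smul_right c f x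

end T2maps

section Abstract

variable {J V W n : Type*} [AddCommGroup J] [Module k J] [AddCommGroup V] [Module k V] [AddCommGroup W] [Module k W]

lemma lift_bijective [Fintype n] (b : Module.Basis n k J) (e : V →ₗ[k] J →ₗ[k] W) (c : n → (W →ₗ[k] V))
    (h1 : ∀ w, ∑ i, e (c i w) (b i) = w) (h2 : ∀ v j i, c i (e v j) = b.repr j i • v) :
    Function.Bijective (TensorProduct.lift e) := by
  let inv : W →ₗ[k] V ⊗[k] J := ∑ i, ((TensorProduct.mk k V J).flip (b i)) ∘ₗ c i
  have hl : inv ∘ₗ TensorProduct.lift e = LinearMap.id := TensorProduct.ext' fun v j => by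
    simp only [inv, LinearMap.comp_apply, TensorProduct.lift.tmul, LinearMap.sum_apply, LinearMap.flip_apply,
      TensorProduct.mk_apply, LinearMap.id_apply, h2]
    conv_rhs => rw [← b.sum_repr j, tmul_sum]
    exact Finset.sum_congr rfl fun i _ => by rw [smul_tmul]
  refine ⟨Function.LeftInverse.injective (g := inv) fun z => LinearMap.congr_fun hl z, fun w => ⟨inv w, ?_⟩⟩
  simp only [inv, LinearMap.sum_apply, map_sum, LinearMap.comp_apply, LinearMap.flip_apply, TensorProduct.mk_apply,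
    TensorProduct.lift.tmul, h1]

end Abstract

section Coef

variable (J : Type u) [AddCommGroup J] [Module k J]

variable {J} in
/-- `b ↦ b ⊗ j`. -/
def embJ (j : J) : B →ₗ[B] B ⊗[k] J := LinearMap.toSpanSingleton B _ ((1 : B) ⊗ₜ j)

variable {J} in
lemma embJ_add (a b : J) : embJ (B := B) (k := k) (a + b) = embJ a + embJ b := by
  rw [embJ, tmul_add, LinearMap.toSpanSingleton_add]; rfl

variable {J} in
lemma embJ_smul (c : k) (a : J) : embJ (B := B) (c • a) = algebraMap k B c • embJ (B := B) (k := k) a := by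
  rw [embJ, tmul_smul, ← algebraMap_smul B c ((1 : B) ⊗ₜ[k] a), LinearMap.toSpanSingleton_smul]; rfl

/-- `(t, j) ↦ (b ↦ b ⊗ j)_* t`. -/
def coefBil : CotT.T2 P B →ₗ[k] J →ₗ[k] CotT.T2 P (B ⊗[k] J) :=
  LinearMap.flip
    { toFun := fun j => T2mapK (embJ (B := B) (k := k) j)
      map_add' := fun a b => LinearMap.ext fun t =>
        (congrArg (fun h => CotT.T2map P h t) (embJ_add a b)).trans (T2map_add _ _ t)
      map_smul' := fun c a => LinearMap.ext fun t =>
        ((congrArg (fun h => CotT.T2map P h t) (embJ_smul c a)).trans (T2map_smul _ _ t)).trans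
          (algebraMap_smul B c _) }

/-- `T²(B) ⊗ J → T²(B ⊗ J)`. -/
def coefT2 : CotT.T2 P B ⊗[k] J →ₗ[k] CotT.T2 P (B ⊗[k] J) :=
  TensorProduct.lift (coefBil P J)

variable {J} in
lemma coefT2_tmul (t : CotT.T2 P B) (j : J) :
    coefT2 P J (t ⊗ₜ[k] j) = CotT.T2map P (embJ j) t :=
  TensorProduct.lift.tmul _ _

theorem coefT2_bijective [Module.Finite k J] : Function.Bijective (coefT2 P J) := by
  classical
  let b := Module.Free.chooseBasis k J
  let bB : Module.Basis _ B (B ⊗[k] J) := Algebra.TensorProduct.basis B b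
  have hid : ∑ i, embJ (b i) ∘ₗ bB.coord i = (LinearMap.id : B ⊗[k] J →ₗ[B] B ⊗[k] J) := by
    refine bB.ext fun l => ?_
    rw [LinearMap.sum_apply, Finset.sum_eq_single l]
    · simp [bB, embJ]
    · intro i _ hi; simp [bB, embJ, Finsupp.single_apply, hi.symm]
    · simp
  have hi : ∀ j i, bB.coord i ∘ₗ embJ j = algebraMap k B (b.repr j i) • LinearMap.id := fun j i =>
    LinearMap.ext_ring (by simp [bB, embJ, Algebra.smul_def])
  refine lift_bijective b _ (fun i => T2mapK (bB.coord i)) (fun x => ?_) fun t j i => ?_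
  · refine (Finset.sum_congr rfl fun i _ => T2map_comp (embJ (b i)) (bB.coord i) x).trans ?_
    exact ((T2map_sum _ _ x).symm.trans (congrArg (fun h => CotT.T2map P h x) hid)).trans (T2map_id x)
  · refine ((T2map_comp (bB.coord i) (embJ j) t).trans (congrArg (fun h => CotT.T2map P h t) (hi j i))).trans ?_
    exact ((T2map_smul _ _ t).trans (congrArg (_ • ·) (T2map_id t))).trans (algebraMap_smul B _ t)

variable {J} in
lemma coefT2_lTensor {J' : Type u} [AddCommGroup J'] [Module k J'] (f : J →ₗ[k] J') (z : CotT.T2 P B ⊗[k] J) :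
    coefT2 P J' (LinearMap.lTensor _ f z) =
      CotT.T2map P (TensorProduct.AlgebraTensorModule.map (LinearMap.id : B →ₗ[B] B) f) (coefT2 P J z) := by
  induction z using TensorProduct.induction_on with
  | zero => simp
  | tmul t j =>
    refine (congrArg (coefT2 P J') (LinearMap.lTensor_tmul _ f t j)).trans ((coefT2_tmul P t (f j)).trans ?_)
    refine Eq.trans ?_ ((congrArg (CotT.T2map P _) (coefT2_tmul P t j)).trans (T2map_comp _ _ t)).symm
    exact congrArg (fun h => CotT.T2map P h t) (LinearMap.ext_ring (by simp [embJ]))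
  | add a b ha hb =>
    refine ((congrArg (coefT2 P J') ((LinearMap.lTensor (CotT.T2 P B) f).map_add a b)).trans
      ((coefT2 P J').map_add _ _)).trans ((congrArg₂ (· + ·) ha hb).trans ?_)
    exact ((congrArg (CotT.T2map P _) ((coefT2 P J).map_add a b)).trans (map_add (CotT.T2map P _) _ _)).symm

end Coef

/-- The obstruction class of a deformation of `Spec B`. -/
def IsSchOb (p : A' ⟶ A) (ξ : ArtFun.DefSch (Spec (CommRingCat.of B)) (Spec.map (CommRingCat.ofHom (algebraMap k B))) A)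
    (x : CotT.T2 P (B ⊗[k] RingHom.ker p.toAlgHom)) : Prop :=
  ∃ (R : AlgDef B A) (d : ObsData P p R), Nonempty (ξ.Iso R.toSch) ∧ d.cls = x

variable {P}

lemma exists_isSchOb (hp : ArtFun.Art.IsSemismallExt p)
    (ξ : ArtFun.DefSch (Spec (CommRingCat.of B)) (Spec.map (CommRingCat.ofHom (algebraMap k B))) A) :
    ∃ x, IsSchOb P p ξ x := by
  obtain ⟨R, hR⟩ := exists_iso_toSch ξ
  obtain ⟨d⟩ := exists_obsData' P hp.1 hp.2 R
  exact ⟨_, R, d, hR, rfl⟩

lemma IsSchOb.unique (hp : ArtFun.Art.IsSemismallExt p)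
    {ξ η : ArtFun.DefSch (Spec (CommRingCat.of B)) (Spec.map (CommRingCat.ofHom (algebraMap k B))) A}
    {x y} (hx : IsSchOb P p ξ x) (hy : IsSchOb P p η y) (e : ξ.Iso η) : x = y := by
  obtain ⟨R, d, ⟨v⟩, rfl⟩ := hx
  obtain ⟨R', d', ⟨v'⟩, rfl⟩ := hy
  obtain ⟨w⟩ := exists_redEquiv_of_iso (v.symm.trans (e.trans v'))
  exact cls_eq hp.1 hp.2 d d' w.e w.e_algebraMap w.q_e

variable (P) in
/-- The obstruction to lifting an isomorphism class. -/
def objOb (hp : ArtFun.Art.IsSemismallExt p) : (Fd).obj A → CotT.T2 P (B ⊗[k] RingHom.ker p.toAlgHom) :=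
  Quotient.lift (fun ξ => (exists_isSchOb (P := P) hp ξ).choose) fun ξ η ⟨e⟩ =>
    (exists_isSchOb hp ξ).choose_spec.unique hp (exists_isSchOb hp η).choose_spec e

lemma objOb_eq_zero_iff (hp : ArtFun.Art.IsSemismallExt p) (y : (Fd).obj A) :
    objOb P hp y = 0 ↔ ∃ y', (Fd).map p y' = y := by
  induction y using Quotient.inductionOn with | h ξ => ?_
  obtain ⟨R, d, ⟨v⟩, hd⟩ := (exists_isSchOb (P := P) hp ξ).choose_spec
  change (exists_isSchOb (P := P) hp ξ).choose = 0 ↔ _
  rw [← hd, cls_eq_zero_iff hp.1 hp.2]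
  constructor
  · rintro ⟨R', ⟨r⟩⟩
    obtain ⟨e, -⟩ := exists_iso_of_red hp.1 r
    exact ⟨R'.toSch.cl, Quotient.sound ⟨e.trans v.symm⟩⟩
  · rintro ⟨y', hy'⟩
    induction y' using Quotient.inductionOn with | h η => ?_
    obtain ⟨e⟩ := Quotient.exact hy'
    obtain ⟨R', ⟨w⟩⟩ := exists_iso_toSch η
    obtain ⟨r, -⟩ := exists_red_of_iso hp.1 ((w.symm.baseChange p).trans (e.trans v))
    exact ⟨R', ⟨r⟩⟩

lemma objOb_push (hp : ArtFun.Art.IsSemismallExt p) (hp' : ArtFun.Art.IsSemismallExt p') (w : g ≫ p' = p)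
    (y : (Fd).obj A) : objOb P hp' y = CotT.T2map P (coefMap B w) (objOb P hp y) := by
  induction y using Quotient.inductionOn with | h ξ => ?_
  obtain ⟨R, d, hv, hd⟩ := (exists_isSchOb (P := P) hp ξ).choose_spec
  obtain ⟨d'⟩ := exists_obsData' P hp'.1 hp'.2 R
  change (exists_isSchOb (P := P) hp' ξ).choose = CotT.T2map P (coefMap B w) (exists_isSchOb (P := P) hp ξ).choose
  rw [← hd, ← cls_push hp.1 hp.2 w hp'.1 hp'.2 d d']
  exact (exists_isSchOb hp' ξ).choose_spec.unique hp' ⟨R, d', hv, rfl⟩ (ArtFun.DefSch.Iso.refl _)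

variable (P)

/-- `T²(B) ⊗ J ≃ T²(B ⊗ J)` for the kernel of a small surjection. -/
def coefEquiv (hp : ArtFun.Art.IsSemismallExt p) :
    CotT.T2 P B ⊗[k] RingHom.ker p.toAlgHom ≃ₗ[k] CotT.T2 P (B ⊗[k] RingHom.ker p.toAlgHom) :=
  haveI := finite_ker hp.2
  LinearEquiv.ofBijective _ (coefT2_bijective P _)

lemma coefEquiv_objOb (hp : ArtFun.Art.IsSemismallExt p) (y : (Fd).obj A) :
    coefT2 P (RingHom.ker p.toAlgHom) ((coefEquiv P hp).symm (objOb P hp y)) = objOb P hp y :=
  (coefEquiv P hp).apply_symm_apply _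

lemma obs_push (hp : ArtFun.Art.IsSemismallExt p) (hp' : ArtFun.Art.IsSemismallExt p') (w : g ≫ p' = p)
    (y : (Fd).obj A) : (coefEquiv P hp').symm (objOb P hp' y) =
      LinearMap.lTensor _ (kerMap p p' g w) ((coefEquiv P hp).symm (objOb P hp y)) := by
  refine (coefEquiv P hp').symm_apply_eq.2 ?_
  refine (objOb_push hp hp' w y).trans (Eq.trans ?_ (coefT2_lTensor P _ _).symm)
  exact (congrArg (CotT.T2map P _) (coefEquiv_objOb P hp y)).symm

lemma obs_eq_zero (hp : ArtFun.Art.IsSemismallExt p) (y : (Fd).obj A) :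
    (coefEquiv P hp).symm (objOb P hp y) = 0 ↔ ∃ y', (Fd).map p y' = y :=
  (coefEquiv P hp).symm.map_eq_zero_iff.trans (objOb_eq_zero_iff hp y)

/-- `T²(B/k, B)` is an obstruction space. -/
def obsTheory : ArtFun.ObsTheory (Fd) (CotT.T2 P B) where
  obs p hp y := (coefEquiv P hp).symm (objOb P hp y)
  obs_eq_zero_iff p hp y := obs_eq_zero P hp y
  obs_quot p hp K hK hKJ hq y := obs_push P hp hq (ArtFun.Art.quotMk_quotFactor hK p hKJ) y

end DefAff

end
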