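import Groth.Prelude.Def_ArtFun4
import Groth.Agent.DefAff.AlgDef
import Groth.Agent.DefAff.Class
import Groth.Agent.ThickAffine.Affine
import Groth.Agent.FlatBasics.Deform
import Groth.Agent.FpqcDescent.IdealComap
import Mathlib.AlgebraicGeometry.Morphisms.Flat

/-!
# Deformations of an affine scheme are deformations of its algebra
-/

noncomputable section

universe u

open CategoryTheory CategoryTheory.Limits AlgebraicGeometry IsLocalRing

namespace DefAff

/-- A square with surjective vertical maps and the smallest possible kernel is cocartesian. -/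
theorem isPushout_of_surjective {A₁ A₂ R₁ R₂ : CommRingCat.{u}} (φ : A₁ ⟶ R₁) (π : A₁ ⟶ A₂) (q : R₁ ⟶ R₂)
    (ψ : A₂ ⟶ R₂) (w : φ ≫ q = π ≫ ψ) (hπ : Function.Surjective π.hom) (hq : Function.Surjective q.hom)
    (hker : RingHom.ker q.hom ≤ (RingHom.ker π.hom).map φ.hom) : IsPushout φ π q ψ := by
  have hk : ∀ s : PushoutCocone φ π, RingHom.ker q.hom ≤ RingHom.ker s.inl.hom := fun s => by
    refine hker.trans (Ideal.map_le_iff_le_comap.2 fun a ha => ?_)
    rw [Ideal.mem_comap, RingHom.mem_ker,
      show s.inl.hom (φ.hom a) = s.inr.hom (π.hom a) from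
        congrArg (fun χ : A₁ ⟶ s.pt => χ.hom a) s.condition,
      RingHom.mem_ker.1 ha, map_zero]
  refine IsPushout.of_isColimit' ⟨w⟩ (PushoutCocone.IsColimit.mk w
    (fun s => CommRingCat.ofHom (RingHom.liftOfSurjective q.hom hq ⟨s.inl.hom, hk s⟩))
    (fun s => CommRingCat.hom_ext (RingHom.liftOfRightInverse_comp _ _ _ _))
    (fun s => CommRingCat.hom_ext (RingHom.ext fun a => ?_))
    fun s m hm₁ _ => CommRingCat.hom_ext (RingHom.ext fun y => ?_))
  · obtain ⟨a, rfl⟩ := hπ a
    rw [CommRingCat.hom_comp, RingHom.comp_apply,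
      show ψ.hom (π.hom a) = q.hom (φ.hom a) from (congrArg (fun χ : A₁ ⟶ R₂ => χ.hom a) w).symm]
    exact (RingHom.liftOfRightInverse_comp_apply _ _ _ ⟨s.inl.hom, hk s⟩ _).trans
      (congrArg (fun χ : A₁ ⟶ s.pt => χ.hom a) s.condition)
  · obtain ⟨x, rfl⟩ := hq y
    exact (congrArg (fun χ : R₁ ⟶ s.pt => χ.hom x) hm₁).trans
      (RingHom.liftOfRightInverse_comp_apply _ _ _ ⟨s.inl.hom, hk s⟩ x).symm

/-- A cartesian square of spectra comes from a cocartesian square of rings. -/
theorem isPushout_of_isPullback_Spec {A₁ A₂ R₁ R₂ : CommRingCat.{u}} {φ : A₁ ⟶ R₁} {π : A₁ ⟶ A₂} {q : R₁ ⟶ R₂}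
    {ψ : A₂ ⟶ R₂} (h : IsPullback (Spec.map q) (Spec.map ψ) (Spec.map φ) (Spec.map π)) :
    IsPushout φ π q ψ :=
  (IsPullback.of_map_of_faithful Scheme.Spec (f := q.op) (g := ψ.op) (h := φ.op) (i := π.op) h).unop.flip

lemma surjective_of_isClosedImmersion {R S : CommRingCat.{u}} (φ : R ⟶ S) [IsClosedImmersion (Spec.map φ)] :
    Function.Surjective φ.hom := by
  obtain ⟨-, h⟩ := IsClosedImmersion.isAffine_surjective_of_isAffine (Spec.map φ)
  intro y
  obtain ⟨x, hx⟩ := h ((Scheme.ΓSpecIso S).inv y)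
  refine ⟨(Scheme.ΓSpecIso R).hom x, ?_⟩
  have := congrArg (fun χ : Γ(Spec R, ⊤) ⟶ S => χ.hom x) (Scheme.ΓSpecIso_naturality φ)
  change (Scheme.ΓSpecIso S).hom ((Spec.map φ).appTop x) = φ.hom ((Scheme.ΓSpecIso R).hom x) at this
  rw [← this, hx]
  exact Iso.inv_hom_id_apply _ _

variable {k : Type u} [Field k] {B : Type u} [CommRing B] [Algebra k B]
variable {A A' : ArtFun.Art k k}

local notation "X₀" => Spec (CommRingCat.of B)
local notation "x₀" => Spec.map (CommRingCat.ofHom (algebraMap k B))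

/-- The deformation of a scheme given by a deformation of its algebra. -/
@[reducible] def AlgDef.toSch (R : AlgDef B A) : ArtFun.DefSch X₀ x₀ A where
  total := Spec (CommRingCat.of R)
  f := Spec.map (CommRingCat.ofHom (algebraMap A R))
  flat := (HasRingHomProperty.Spec_iff (P := @Flat)).2 (RingHom.flat_algebraMap_iff.2 R.flat)
  i := Spec.map (CommRingCat.ofHom R.proj)
  isPullback := isPullback_SpecMap_of_isPushout _ _ _ _
    (isPushout_of_surjective (CommRingCat.ofHom (algebraMap A R)) (CommRingCat.ofHom A.res.toRingHom)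
      (CommRingCat.ofHom R.proj) (CommRingCat.ofHom (algebraMap k B))
      (CommRingCat.hom_ext (RingHom.ext fun a => R.proj_algebraMap a)) A.res_surjective R.proj_surjective
      (R.ker_proj_le.trans (Ideal.map_mono fun _ ha => res_eq_zero ha)))

instance (A : ArtFun.Art k k) : IsClosedImmersion (ArtFun.Art.specRes A) :=
  IsClosedImmersion.spec_of_surjective _ A.res_surjective

instance surjective_specRes (A : ArtFun.Art k k) : Surjective (ArtFun.Art.specRes A) := by
  refine ⟨fun x => ?_⟩
  obtain ⟨N, hN⟩ := isNilpotent_maximalIdeal A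
  have hle : RingHom.ker A.res.toRingHom ≤ (PrimeSpectrum.asIdeal x) := fun a ha => by
    refine x.isPrime.mem_of_pow_mem N ?_
    have := Ideal.pow_mem_pow ((ArtFun.Art.mem_maximalIdeal_iff A a).2 ha) N
    rw [hN, Ideal.zero_eq_bot, Ideal.mem_bot] at this
    rw [this]
    exact zero_mem _
  have : x ∈ Set.range (PrimeSpectrum.comap A.res.toRingHom) := by
    rw [range_comap_of_surjective _ _ A.res_surjective]
    exact hle
  exact this

lemma isNilpotent_ker_specRes (A : ArtFun.Art k k) : IsNilpotent (ArtFun.Art.specRes A).ker := by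
  obtain ⟨N, hN⟩ := isNilpotent_maximalIdeal A
  refine ⟨N, Scheme.IdealSheafData.ext_of_isAffine ?_⟩
  rw [Scheme.IdealSheafData.ideal_pow, Pi.pow_apply, Scheme.Hom.ker_apply]
  refine le_antisymm (le_trans (Ideal.pow_right_mono (J := (maximalIdeal A).map
    (Scheme.ΓSpecIso (CommRingCat.of A)).inv.hom) (fun x hx => ?_) N) ?_) bot_le
  · refine (Ideal.mem_map_iff_of_surjective _
      (Scheme.ΓSpecIso (CommRingCat.of A)).symm.commRingCatIsoToRingEquiv.surjective).2
      ⟨(Scheme.ΓSpecIso (CommRingCat.of A)).hom x, ?_, by exact Iso.hom_inv_id_apply (Scheme.ΓSpecIso (CommRingCat.of A)) x⟩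
    rw [ArtFun.Art.mem_maximalIdeal_iff]
    have h := congrArg (fun χ : Γ(Spec (CommRingCat.of A), ⊤) ⟶ CommRingCat.of k => χ.hom x)
      (Scheme.ΓSpecIso_naturality (CommRingCat.ofHom A.res.toRingHom))
    refine h.symm.trans ?_
    change (Scheme.ΓSpecIso (CommRingCat.of k)).hom ((ArtFun.Art.specRes A).appTop x) = 0
    rw [show (ArtFun.Art.specRes A).appTop x = 0 from hx, map_zero]
  · rw [← Ideal.map_pow, hN, Ideal.zero_eq_bot, Ideal.map_bot]
    exact bot_le

/-- The total space of a deformation of an affine scheme is affine. -/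
theorem isAffine_total (ξ : ArtFun.DefSch X₀ x₀ A) : IsAffine ξ.total := by
  haveI : IsClosedImmersion ξ.i := MorphismProperty.of_isPullback ξ.isPullback.flip inferInstance
  haveI : Surjective ξ.i := MorphismProperty.of_isPullback ξ.isPullback.flip (surjective_specRes A)
  have hker : ξ.i.ker = (ArtFun.Art.specRes A).ker.comap ξ.f := by
    rw [← ξ.isPullback.isoPullback_hom_fst, Scheme.Hom.ker_comp_of_isIso,
      Scheme.IdealSheafData.ker_fst_of_isClosedImmersion]
  obtain ⟨N, hN⟩ := Groth.Agent.FlatBasics.isNilpotent_comap (isNilpotent_ker_specRes A) ξ.f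
  refine Groth.Agent.ThickAffine.isAffine_of_ker_pow_eq_bot ξ.i N ?_
  rw [hker, pow_succ, hN]
  exact Scheme.IdealSheafData.bot_mul _

/-- Every deformation of an affine scheme comes from a deformation of its algebra. -/
theorem exists_iso_toSch (ξ : ArtFun.DefSch X₀ x₀ A) : ∃ R : AlgDef B A, Nonempty (ξ.Iso R.toSch) := by
  haveI := isAffine_total ξ
  let T : CommRingCat.{u} := Γ(ξ.total, ⊤)
  obtain ⟨π, hπ⟩ := Spec.map_surjective (ξ.i ≫ ξ.total.isoSpec.hom)
  obtain ⟨φ, hφ⟩ := Spec.map_surjective (ξ.total.isoSpec.inv ≫ ξ.f)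
  have hpb : IsPullback (Spec.map π) x₀ (Spec.map φ) (ArtFun.Art.specRes A) := by
    refine ξ.isPullback.of_iso (Iso.refl _) ξ.total.isoSpec (Iso.refl _) (Iso.refl _) ?_ ?_ ?_ ?_
    · simp [hπ]
    · simp
    · simp [hφ]
    · simp
  have hpo := isPushout_of_isPullback_Spec hpb
  haveI : IsClosedImmersion (Spec.map π) := MorphismProperty.of_isPullback hpb.flip inferInstance
  have hπs := surjective_of_isClosedImmersion π
  have hres : ∀ a : A, π.hom (φ.hom a) = algebraMap k B (A.res a) := fun a =>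
    congrArg (fun χ : CommRingCat.of A ⟶ CommRingCat.of B => χ.hom a) hpo.w
  have hflat : RingHom.Flat φ.hom := by
    have : Flat (Spec.map φ) := by rw [hφ]; infer_instance
    exact (HasRingHomProperty.Spec_iff (P := @Flat)).1 this
  letI : Algebra A T := φ.hom.toAlgebra
  let R : AlgDef B A :=
    { carrier := T
      proj := π.hom
      proj_algebraMap := hres
      proj_surjective := hπs
      ker_proj_le := by
        refine (Groth.Agent.FpqcDescent.ker_eq_map_of_isPushout hpo A.res_surjective).le.trans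
          (Ideal.map_mono fun a ha => ?_)
        exact (ArtFun.Art.mem_maximalIdeal_iff A a).2 ha
      flat := hflat }
  refine ⟨R, ⟨⟨ξ.total.isoSpec, ?_, ?_⟩⟩⟩
  · change ξ.total.isoSpec.hom ≫ Spec.map φ = ξ.f
    rw [hφ, Iso.hom_inv_id_assoc]
  · exact hπ.symm

variable {p : A' ⟶ A} {R' : AlgDef B A'} {R : AlgDef B A}

lemma Red.isPullback (hp : Function.Surjective p.toAlgHom) (r : Red p R' R) :
    IsPullback (Spec.map (CommRingCat.ofHom r.q)) R.toSch.f R'.toSch.f (ArtFun.Art.specMap p) :=
  isPullback_SpecMap_of_isPushout _ _ _ _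
    (isPushout_of_surjective (CommRingCat.ofHom (algebraMap A' R')) (CommRingCat.ofHom p.toAlgHom.toRingHom)
      (CommRingCat.ofHom r.q) (CommRingCat.ofHom (algebraMap A R))
      (CommRingCat.hom_ext (RingHom.ext fun a => r.q_algebraMap a)) hp r.q_surjective r.ker_q_le)

/-- A reduction of algebras gives an isomorphism with the base change. -/
theorem exists_iso_of_red (hp : Function.Surjective p.toAlgHom) (r : Red p R' R) :
    ∃ e : (R'.toSch.baseChange p).Iso R.toSch,
      e.iso.inv ≫ pullback.fst _ _ = Spec.map (CommRingCat.ofHom r.q) := by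
  let h := r.isPullback hp
  refine ⟨⟨h.isoPullback.symm, ?_, ?_⟩, ?_⟩
  · exact h.isoPullback_inv_snd
  · apply h.hom_ext
    · rw [Category.assoc, Iso.symm_hom, h.isoPullback_inv_fst, ArtFun.DefSch.baseChange_i_fst]
      change Spec.map (CommRingCat.ofHom R'.proj) =
        Spec.map (CommRingCat.ofHom R.proj) ≫ Spec.map (CommRingCat.ofHom r.q)
      rw [← Spec.map_comp, ← CommRingCat.ofHom_comp]
      exact congrArg _ (congrArg _ (RingHom.ext fun x => (r.proj_q x).symm))
    · rw [Category.assoc, Iso.symm_hom, h.isoPullback_inv_snd, ArtFun.DefSch.baseChange_i_f,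
        ArtFun.DefSch.i_f]
  · rw [Iso.symm_inv, h.isoPullback_hom_fst]

/-- An isomorphism of a base change with an affine deformation gives a reduction of algebras. -/
theorem exists_red_of_iso (hp : Function.Surjective p.toAlgHom) (e : (R'.toSch.baseChange p).Iso R.toSch) :
    ∃ r : Red p R' R, Spec.map (CommRingCat.ofHom r.q) = e.iso.inv ≫ pullback.fst _ _ := by
  obtain ⟨q, hq⟩ := Spec.map_surjective (R := CommRingCat.of R') (S := CommRingCat.of R)
    (e.iso.inv ≫ pullback.fst _ _)
  have hpb : IsPullback (Spec.map q) R.toSch.f R'.toSch.f (ArtFun.Art.specMap p) := by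
    refine (IsPullback.of_hasPullback R'.toSch.f (ArtFun.Art.specMap p)).of_iso e.iso (Iso.refl _) (Iso.refl _)
      (Iso.refl _) ?_ ?_ ?_ ?_
    · rw [Iso.refl_hom, Category.comp_id, hq]; exact (Iso.hom_inv_id_assoc _ _).symm
    · rw [Iso.refl_hom, Category.comp_id]; exact e.hom_f.symm
    · rw [Iso.refl_hom, Category.comp_id]; exact (Category.id_comp _).symm
    · rw [Iso.refl_hom, Category.comp_id]; exact (Category.id_comp _).symm
  have hpo := isPushout_of_isPullback_Spec (φ := CommRingCat.ofHom (algebraMap A' R'))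
    (π := CommRingCat.ofHom p.toAlgHom.toRingHom) (ψ := CommRingCat.ofHom (algebraMap A R)) hpb
  haveI : IsClosedImmersion (ArtFun.Art.specMap p) := IsClosedImmersion.spec_of_surjective _ hp
  haveI : IsClosedImmersion (Spec.map q) := MorphismProperty.of_isPullback hpb.flip inferInstance
  have hi : R.toSch.i ≫ Spec.map q = R'.toSch.i := by
    rw [hq, ← Category.assoc, show R.toSch.i ≫ e.iso.inv = (R'.toSch.baseChange p).i from e.symm.i_hom]
    exact ArtFun.DefSch.baseChange_i_fst _ _
  refine ⟨⟨q.hom, fun a => congrArg (fun χ : CommRingCat.of A' ⟶ CommRingCat.of R => χ.hom a) hpo.w,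
    fun x => ?_, surjective_of_isClosedImmersion q,
    (Groth.Agent.FpqcDescent.ker_eq_map_of_isPushout hpo hp).le⟩, hq⟩
  have h2 : q ≫ CommRingCat.ofHom R.proj = CommRingCat.ofHom R'.proj :=
    Spec.map_injective ((Spec.map_comp _ _).trans hi)
  exact congrArg (fun χ : CommRingCat.of R' ⟶ CommRingCat.of B => χ.hom x) h2

end DefAff

end
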